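import Cfsg.Prelude.Def_MonsterType

/-!
# The wreath product of the alternating group of degree five by a group of order two
-/

set_option autoImplicit false

namespace CfsgLib.Spor.MonsterType.Five

open Subgroup
open Cfsg (alternatingFiveWreathTwo)

/-- The embedding of the base. -/
def baseHom : alternatingGroup (Fin 5) × alternatingGroup (Fin 5) →* Equiv.Perm (Fin 5 ⊕ Fin 5) :=
  (Equiv.Perm.sumCongrHom (Fin 5) (Fin 5)).comp
    ((alternatingGroup (Fin 5)).subtype.prodMap (alternatingGroup (Fin 5)).subtype)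

/-- The exchange of the summands. -/
def swp : Equiv.Perm (Fin 5 ⊕ Fin 5) := Equiv.sumComm (Fin 5) (Fin 5)

/-- An element of the wreath product. -/
def wElt (s : Bool) (a : alternatingGroup (Fin 5) × alternatingGroup (Fin 5)) : Equiv.Perm (Fin 5 ⊕ Fin 5) :=
  (if s then swp else 1) * baseHom a

theorem swp_base (a : alternatingGroup (Fin 5) × alternatingGroup (Fin 5)) :
    baseHom a * swp = swp * baseHom (a.2, a.1) := by
  ext (i | i) <;> rfl

theorem swp_sq : swp * swp = 1 := by ext (i | i) <;> rfl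

theorem mem_wreath_iff {σ : Equiv.Perm (Fin 5 ⊕ Fin 5)} : σ ∈ alternatingFiveWreathTwo ↔ ∃ s a, σ = wElt s a := by
  constructor
  · intro h
    induction h using closure_induction with
    | mem x hx =>
      rcases hx with ⟨a, c, rfl⟩ | rfl
      · exact ⟨false, (a, c), by simp [wElt]; rfl⟩
      · exact ⟨true, 1, by simp [wElt]; rfl⟩
    | one => exact ⟨false, 1, by simp [wElt]⟩
    | mul x y _ _ hx hy =>
      obtain ⟨s, a, rfl⟩ := hx
      obtain ⟨t, c, rfl⟩ := hy
      cases t
      · exact ⟨s, a * c, by simp [wElt, mul_assoc]⟩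
      · refine ⟨!s, (a.2, a.1) * c, ?_⟩
        have : baseHom a * (swp * baseHom c) = swp * baseHom ((a.2, a.1) * c) := by
          rw [← mul_assoc, swp_base, mul_assoc, map_mul]
        cases s
        · simpa [wElt, mul_assoc] using this
        · show swp * baseHom a * (swp * baseHom c) = 1 * baseHom ((a.2, a.1) * c)
          rw [one_mul, mul_assoc, this, ← mul_assoc, swp_sq, one_mul]
    | inv x _ hx =>
      obtain ⟨s, a, rfl⟩ := hx
      cases s
      · exact ⟨false, a⁻¹, by simp [wElt]⟩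
      · refine ⟨true, ((a.2, a.1) : _ × _)⁻¹, ?_⟩
        refine inv_eq_of_mul_eq_one_right ?_
        show swp * baseHom a * (swp * baseHom ((a.2, a.1)⁻¹)) = 1
        rw [mul_assoc, ← mul_assoc (baseHom a), swp_base, mul_assoc swp, ← map_mul, mul_inv_cancel, map_one, mul_one,
          swp_sq]
  · rintro ⟨s, ⟨a, c⟩, rfl⟩
    refine mul_mem ?_ (subset_closure (Or.inl ⟨a, c, rfl⟩))
    split_ifs
    · exact subset_closure (Or.inr rfl)
    · exact one_mem _

theorem card_wreath_le : Nat.card alternatingFiveWreathTwo ≤ 7200 := by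
  classical
  have h60 : Nat.card (alternatingGroup (Fin 5)) = 60 := by
    rw [nat_card_alternatingGroup]; simp [Nat.card_eq_fintype_card, Nat.factorial]
  let f : Bool × alternatingGroup (Fin 5) × alternatingGroup (Fin 5) → alternatingFiveWreathTwo :=
    fun t => ⟨wElt t.1 t.2, mem_wreath_iff.2 ⟨_, _, rfl⟩⟩
  refine le_trans (Nat.card_le_card_of_surjective f ?_) (le_of_eq ?_)
  · rintro ⟨σ, hσ⟩
    obtain ⟨s, a, rfl⟩ := mem_wreath_iff.1 hσ
    exact ⟨(s, a), rfl⟩
  · rw [Nat.card_prod, Nat.card_prod, h60, Nat.card_eq_fintype_card, Fintype.card_bool]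

theorem base_injective : Function.Injective baseHom := fun a c h => by
  refine Prod.ext (Subtype.ext (Equiv.ext fun i => ?_)) (Subtype.ext (Equiv.ext fun i => ?_))
  · have := Equiv.ext_iff.1 h (.inl i)
    exact Sum.inl_injective this
  · have := Equiv.ext_iff.1 h (.inr i)
    exact Sum.inr_injective this

/-- The wreath product has no nontrivial normal 2-subgroup. -/
theorem wreath_nonormal (U : Subgroup alternatingFiveWreathTwo) (hU : U.Normal) (h2 : IsPGroup 2 U) : U = ⊥ := by
  classical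
  have hmem : ∀ a, baseHom a ∈ alternatingFiveWreathTwo := fun a =>
    mem_wreath_iff.2 ⟨false, a, by simp [wElt]⟩
  let ι : alternatingGroup (Fin 5) × alternatingGroup (Fin 5) →* alternatingFiveWreathTwo :=
    baseHom.codRestrict _ hmem
  have hι : Function.Injective ι := fun a c h => base_injective (congrArg Subtype.val h)
  have hfac : ∀ V : Subgroup (alternatingGroup (Fin 5)), V.Normal → IsPGroup 2 V → V = ⊥ := fun V hV hV2 => by
    rcases hV.eq_bot_or_eq_top with h | h
    · exact h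
    · exfalso
      subst h
      haveI : Fact (Nat.Prime 2) := ⟨Nat.prime_two⟩
      obtain ⟨n, hn⟩ := hV2.exists_card_eq
      rw [card_top, nat_card_alternatingGroup] at hn
      simp [Nat.card_eq_fintype_card, Nat.factorial] at hn
      have h3 : (3 : ℕ) ∣ 2 ^ n := hn ▸ (by norm_num)
      have := (Nat.prime_dvd_prime_iff_eq Nat.prime_three Nat.prime_two).1 (Nat.prime_three.dvd_of_dvd_pow h3)
      omega
  have hUι : U.comap ι = ⊥ := by
    have h2' : IsPGroup 2 (U.comap ι) := h2.comap_of_injective ι hι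
    have h1 := hfac _ ((inferInstance : (U.comap ι).Normal).map (MonoidHom.fst _ _) Prod.fst_surjective) (h2'.map _)
    have h3 := hfac _ ((inferInstance : (U.comap ι).Normal).map (MonoidHom.snd _ _) Prod.snd_surjective) (h2'.map _)
    rw [Subgroup.map_eq_bot_iff] at h1 h3
    exact eq_bot_iff.2 fun x hx => mem_bot.2 (Prod.ext (h1 hx) (h3 hx))
  refine eq_bot_iff.2 fun u hu => mem_bot.2 ?_
  obtain ⟨s, a, hua⟩ := mem_wreath_iff.1 u.2
  have hbase : ∀ c, ι c ∈ U → c = 1 := fun c hc => by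
    have : c ∈ U.comap ι := hc
    rwa [hUι, mem_bot] at this
  cases s
  · have e : u = ι a := Subtype.ext (hua.trans (one_mul _))
    rw [e, hbase a (e ▸ hu), map_one]
  · exfalso
    obtain ⟨c, hc⟩ := exists_ne (1 : alternatingGroup (Fin 5))
    have e : u * ι (c, 1) * u⁻¹ = ι (1, a.1 * c * a.1⁻¹) := Subtype.ext (by
      show (u : Equiv.Perm (Fin 5 ⊕ Fin 5)) * baseHom (c, 1) * (u : Equiv.Perm (Fin 5 ⊕ Fin 5))⁻¹ = _
      rw [hua]
      show swp * baseHom a * baseHom (c, 1) * (swp * baseHom a)⁻¹ = baseHom (1, a.1 * c * a.1⁻¹)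
      rw [mul_inv_rev, ← map_inv, ← mul_assoc, mul_assoc swp, mul_assoc swp, ← map_mul, ← map_mul,
        inv_eq_of_mul_eq_one_right swp_sq, mul_assoc, swp_base, ← mul_assoc, swp_sq, one_mul]
      congr 1
      ext <;> simp)
    have hmemU : ι ((1, a.1 * c * a.1⁻¹) * (c, 1)⁻¹) ∈ U := by
      rw [map_mul, map_inv, ← e,
        show u * ι (c, 1) * u⁻¹ * (ι (c, 1))⁻¹ = u * (ι (c, 1) * u⁻¹ * (ι (c, 1))⁻¹) by group]
      exact mul_mem hu (hU.conj_mem _ (inv_mem hu) _)
    refine hc ?_
    have := congrArg Prod.fst (hbase _ hmemU)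
    simpa using this

/-- A permutation of five points from the lists of its images. -/
def mkFive (l : List ℕ) : Equiv.Perm (Fin 5) :=
  if h : ∀ i : Fin 5, (⟨l.idxOf ((⟨l.getD (i : ℕ) 0 % 5, Nat.mod_lt _ (by norm_num)⟩ : Fin 5) : ℕ) % 5,
      Nat.mod_lt _ (by norm_num)⟩ : Fin 5) = i ∧
    (⟨l.getD (((⟨l.idxOf (i : ℕ) % 5, Nat.mod_lt _ (by norm_num)⟩ : Fin 5) : ℕ)) 0 % 5,
      Nat.mod_lt _ (by norm_num)⟩ : Fin 5) = i
  then
    { toFun := fun i => ⟨l.getD (i : ℕ) 0 % 5, Nat.mod_lt _ (by norm_num)⟩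
      invFun := fun i => ⟨l.idxOf (i : ℕ) % 5, Nat.mod_lt _ (by norm_num)⟩
      left_inv := fun i => (h i).1
      right_inv := fun i => (h i).2 }
  else 1

/-- An element from a table entry. -/
def tabPerm (e : Bool × List ℕ × List ℕ) : Equiv.Perm (Fin 5 ⊕ Fin 5) :=
  (if e.1 then swp else 1) * Equiv.Perm.sumCongr (mkFive e.2.1) (mkFive e.2.2)

/-- A table entry has even parts. -/
def tabEven (e : Bool × List ℕ × List ℕ) : Bool :=
  decide (Equiv.Perm.sign (mkFive e.2.1) = 1) && decide (Equiv.Perm.sign (mkFive e.2.2) = 1)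

theorem tabPerm_mem {e : Bool × List ℕ × List ℕ} (h : tabEven e = true) : tabPerm e ∈ alternatingFiveWreathTwo := by
  simp only [tabEven, Bool.and_eq_true, decide_eq_true_eq] at h
  exact mem_wreath_iff.2 ⟨e.1, (⟨_, Equiv.Perm.mem_alternatingGroup.2 h.1⟩, ⟨_, Equiv.Perm.mem_alternatingGroup.2 h.2⟩), rfl⟩

end CfsgLib.Spor.MonsterType.Five
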