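import Cfsg.Agent.Lib.Spor.MonsterType.Five.Data
import Cfsg.Agent.Lib.Spor.MonsterType.Five.Wreath
import Cfsg.Agent.Lib.Spor.MonsterType.Prime.Mono

/-!
# Finite checks of the action on the ten subspaces
-/

set_option autoImplicit false

namespace CfsgLib.Spor.MonsterType.Five

open CfsgLib.Spor.MonsterType.Prime (xorCols ofIdx toIdx)

set_option maxRecDepth 100000

/-- The number of a subspace. -/
def lnum : Fin 5 ⊕ Fin 5 → ℕ
  | .inl i => i
  | .inr i => 5 + i

/-- A subspace, as class numbers. -/
def lineOf (k : ℕ) : List ℕ := lineTab.getD k []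

/-- The image of a subspace number under a table entry. -/
def rawApply (e : Bool × List ℕ × List ℕ) (k : ℕ) : ℕ :=
  if k < 5 then (if e.1 then 5 + e.2.1.getD k 0 else e.2.1.getD k 0)
  else (if e.1 then e.2.2.getD (k - 5) 0 else 5 + e.2.2.getD (k - 5) 0)

/-- The action of a generator. -/
def genAt (g : ℕ) : Bool × List ℕ × List ℕ := genTab.getD g (false, [], [])

/-- The action along the tree. -/
def pathAt (i : ℕ) : Bool × List ℕ × List ℕ := pathTab.getD i (false, [], [])

/-- An entry of the tree. -/
def nodeAt (i : ℕ) : ℕ × ℕ × ℕ := treeTab.getD i (0, 0, 0)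

theorem genTab_facts : (∀ g : Fin 77, tabEven (genAt g) = true) ∧
    (∀ g : Fin 77, ∀ x, lnum (tabPerm (genAt g) x) = rawApply (genAt g) (lnum x)) := by
  refine ⟨by decide +kernel, by decide +kernel⟩

theorem pathTab_facts : (∀ i : Fin 75, tabEven (pathAt i) = true) ∧
    (∀ i : Fin 75, ∀ x, lnum (tabPerm (pathAt i) x) = rawApply (pathAt i) (lnum x)) := by
  refine ⟨by decide +kernel, by decide +kernel⟩

theorem gen_lines : ∀ g : Fin 77, (List.range 10).all (fun k => (lineOf k).all fun n =>
    (lineOf (rawApply (genAt g) k)).contains (xorCols (colTab.getD g []) n)) = true := by decide +kernel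

theorem tree_facts : (∀ i : Fin 75, (i : ℕ) = 0 → (nodeAt i).1 = 128 ∧
      (List.range 10).all (fun k => rawApply (pathAt i) k == k) = true) ∧
    (∀ i : Fin 75, (i : ℕ) ≠ 0 → (nodeAt i).2.1 < (i : ℕ) ∧ (nodeAt i).2.2 < 77 ∧
      (nodeAt i).1 = xorCols (colTab.getD (nodeAt i).2.2 []) (nodeAt (nodeAt i).2.1).1 ∧
      (List.range 10).all (fun k =>
        rawApply (pathAt i) k == rawApply (genAt (nodeAt i).2.2) (rawApply (pathAt (nodeAt i).2.1) k)) = true) ∧
    treeTab.length = 75 ∧ (treeTab.map Prod.fst).Nodup := by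
  refine ⟨by decide +kernel, by decide +kernel, by decide +kernel, by decide +kernel⟩

theorem line_facts : (∀ x, (lineOf (lnum x)).length = 15 ∧ (lineOf (lnum x)).Nodup ∧
      (lineOf (lnum x)).all (fun n => decide (n < 256)) = true) ∧
    (∀ x y : Fin 5 ⊕ Fin 5, x ≠ y → ((lineOf (lnum x)).filter fun n => (lineOf (lnum y)).contains n).length ≤ 3) ∧
    (∀ i : Fin 75, (List.range 10).all (fun k => !(lineOf k).contains 128 || (lineOf k).contains (nodeAt i).1) = true →
      (i : ℕ) ∈ [0, 72, 74]) := by
  refine ⟨by decide +kernel, by decide +kernel, by decide +kernel⟩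

theorem idx_facts : ∀ n : Fin 256, toIdx (ofIdx 8 n) = (n : ℕ) := by decide +kernel

theorem kernel_facts : ([0, 72, 74] : List ℕ).all (fun i => (List.range 60).all fun k => (List.range 16).all fun j =>
    !((List.range 10).all fun q =>
        rawApply (pathAt i) (rawApply (genAt (61 + j)) (rawApply (genAt (1 + k)) q)) == q) ||
      (i == 0 && (fivePows.contains (centFive.getD k 0) &&
        (fiveMasks.getD j 0 == 0 || fiveMasks.getD j 0 == 16777215)))) = true := by decide +kernel

end CfsgLib.Spor.MonsterType.Five
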