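import Cfsg.Agent.Lib.Spor.MonsterType.Five.Basic
import Cfsg.Agent.Lib.Spor.MonsterType.Five.ActFacts

/-!
# The centralizer of the element of order five acts on ten subspaces as the wreath product
-/

set_option autoImplicit false

namespace CfsgLib.Spor.MonsterType.Five

open Subgroup CfsgLib.Spor CfsgLib.Spor.Leech CfsgLib.Spor.MonsterType.Seven
open CfsgLib.Spor.MonsterType.Prime (Std ofIdx toIdx xorCols)
open Cfsg (leechLattice Co0 sqNorm GolayPt M24 supports golayCode dotInt alternatingFiveWreathTwo)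
open scoped Pointwise

noncomputable section

/-- The classes of a subspace. -/
def lineSet (x : Fin 5 ⊕ Fin 5) : Finset (Fin 8 → ZMod 2) := ((lineOf (lnum x)).map (ofIdx 8)).toFinset

theorem line_lt {x : Fin 5 ⊕ Fin 5} {n : ℕ} (h : n ∈ lineOf (lnum x)) : n < 256 := by
  have := List.all_eq_true.1 (line_facts.1 x).2.2 n h
  simpa using this

theorem ofIdx_inj {n m : ℕ} (hn : n < 256) (hm : m < 256) (h : ofIdx 8 n = ofIdx 8 m) : n = m := by
  exact (idx_facts ⟨n, hn⟩).symm.trans ((congrArg toIdx h).trans (idx_facts ⟨m, hm⟩))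

theorem card_lineSet (x : Fin 5 ⊕ Fin 5) : (lineSet x).card = 15 := by
  rw [lineSet, List.toFinset_card_of_nodup, List.length_map, (line_facts.1 x).1]
  exact (line_facts.1 x).2.1.map_on fun a ha c hc h => ofIdx_inj (line_lt ha) (line_lt hc) h

theorem mem_lineSet {x : Fin 5 ⊕ Fin 5} {a : Fin 8 → ZMod 2} :
    a ∈ lineSet x ↔ ∃ n ∈ lineOf (lnum x), ofIdx 8 n = a := by
  simp [lineSet]

/-- An element moves the subspaces by a permutation. -/
def HasPerm (g : ↥S5.cent) (σ : Equiv.Perm (Fin 5 ⊕ Fin 5)) : Prop :=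
  ∀ x, ∀ a ∈ lineSet x, S5.actc g a ∈ lineSet (σ x)

theorem HasPerm.unique {g : ↥S5.cent} {σ τ : Equiv.Perm (Fin 5 ⊕ Fin 5)} (h : HasPerm g σ) (h' : HasPerm g τ) :
    σ = τ := by
  classical
  refine Equiv.ext fun x => Classical.byContradiction fun hne => ?_
  have hsub : (lineSet x).image (S5.actc g) ⊆
      (((lineOf (lnum (σ x))).filter fun n => (lineOf (lnum (τ x))).contains n).map (ofIdx 8)).toFinset := by
    intro a ha
    obtain ⟨c, hc, rfl⟩ := Finset.mem_image.1 ha
    obtain ⟨n, hn, e⟩ := mem_lineSet.1 (h x c hc)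
    obtain ⟨m, hm, e'⟩ := mem_lineSet.1 (h' x c hc)
    obtain rfl : n = m := ofIdx_inj (line_lt hn) (line_lt hm) (e.trans e'.symm)
    rw [List.mem_toFinset, List.mem_map]
    exact ⟨n, List.mem_filter.2 ⟨hn, List.contains_iff_mem.2 hm⟩, e⟩
  have h1 := Finset.card_le_card hsub
  rw [Finset.card_image_of_injective _ (S5.actc_inj g), card_lineSet] at h1
  have h2 := h1.trans (List.toFinset_card_le _)
  rw [List.length_map] at h2
  have := line_facts.2.1 (σ x) (τ x) hne
  omega

theorem HasPerm.mul {g g' : ↥S5.cent} {σ τ : Equiv.Perm (Fin 5 ⊕ Fin 5)} (h : HasPerm g σ) (h' : HasPerm g' τ) :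
    HasPerm (g * g') (σ * τ) := fun x a ha => by
  rw [S5.actc_mul]; exact h _ _ (h' x a ha)

theorem HasPerm.one : HasPerm 1 1 := fun x a ha => by rw [S5.actc_one]; exact ha

theorem HasPerm.inv {g : ↥S5.cent} {σ : Equiv.Perm (Fin 5 ⊕ Fin 5)} (h : HasPerm g σ) : HasPerm g⁻¹ σ⁻¹ := by
  classical
  intro x a ha
  have hsub : (lineSet (σ⁻¹ x)).image (S5.actc g) ⊆ lineSet x := by
    intro c hc
    obtain ⟨e, he, rfl⟩ := Finset.mem_image.1 hc
    have := h _ e he
    rwa [Equiv.Perm.inv_def, Equiv.apply_symm_apply] at this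
  have heq := Finset.eq_of_subset_of_card_le hsub (by
    rw [Finset.card_image_of_injective _ (S5.actc_inj g), card_lineSet, card_lineSet])
  rw [← heq, Finset.mem_image] at ha
  obtain ⟨e, he, rfl⟩ := ha
  rwa [← S5.actc_mul, inv_mul_cancel, S5.actc_one]

/-- The elements permuting the subspaces evenly. -/
def Good : Subgroup ↥S5.cent where
  carrier := {g | ∃ σ ∈ alternatingFiveWreathTwo, HasPerm g σ}
  one_mem' := ⟨1, one_mem _, HasPerm.one⟩
  mul_mem' := fun ⟨σ, hσ, h⟩ ⟨τ, hτ, h'⟩ => ⟨σ * τ, mul_mem hσ hτ, h.mul h'⟩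
  inv_mem' := fun ⟨σ, hσ, h⟩ => ⟨σ⁻¹, inv_mem hσ, h.inv⟩

theorem gen_perm {g : ℕ} (hg : g < 77) : HasPerm (gen g) (tabPerm (genAt g)) := by
  intro x a ha
  obtain ⟨n, hn, rfl⟩ := mem_lineSet.1 ha
  rw [gen_cols hg, mem_lineSet]
  refine ⟨_, ?_, rfl⟩
  have hx : lnum x < 10 := by rcases x with i | i <;> simp only [lnum] <;> omega
  have := List.all_eq_true.1 (List.all_eq_true.1 (gen_lines ⟨g, hg⟩) (lnum x) (List.mem_range.2 hx)) n hn
  rw [genTab_facts.2 ⟨g, hg⟩ x]
  exact List.contains_iff_mem.1 this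

theorem gen_good {g : ℕ} (hg : g < 77) : gen g ∈ Good :=
  ⟨_, tabPerm_mem (genTab_facts.1 ⟨g, hg⟩), gen_perm hg⟩

theorem lnum_inj : ∀ x y : Fin 5 ⊕ Fin 5, lnum x = lnum y → x = y := by decide

theorem lnum_lt : ∀ x : Fin 5 ⊕ Fin 5, lnum x < 10 := by decide

theorem exists_lnum : ∀ q : Fin 10, ∃ x : Fin 5 ⊕ Fin 5, lnum x = (q : ℕ) := by decide

/-- The orbit of the standard class, along the tree. -/
theorem reach : ∀ i, i < 75 → ∃ t : ↥S5.cent, t ∈ Good ∧ S5.actc t (ofIdx 8 128) = ofIdx 8 (nodeAt i).1 ∧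
    HasPerm t (tabPerm (pathAt i)) := by
  intro i
  induction i using Nat.strong_induction_on with
  | _ i ih =>
    intro hi
    by_cases h0 : i = 0
    · obtain ⟨e1, e2⟩ := tree_facts.1 ⟨i, hi⟩ h0
      refine ⟨1, one_mem _, by rw [S5.actc_one, e1], ?_⟩
      have : tabPerm (pathAt i) = 1 := Equiv.ext fun x => lnum_inj _ _ (by
        rw [pathTab_facts.2 ⟨i, hi⟩ x]
        exact beq_iff_eq.1 (List.all_eq_true.1 e2 _ (List.mem_range.2 (lnum_lt x))))
      rw [this]; exact HasPerm.one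
    · obtain ⟨hp, hg, e1, e2⟩ := tree_facts.2.1 ⟨i, hi⟩ h0
      obtain ⟨t, ht, htc, htp⟩ := ih _ hp (lt_trans hp hi)
      refine ⟨gen (nodeAt i).2.2 * t, mul_mem (gen_good hg) ht, ?_, ?_⟩
      · rw [S5.actc_mul, htc, gen_cols hg, e1]; rfl
      · have : tabPerm (pathAt i) = tabPerm (genAt (nodeAt i).2.2) * tabPerm (pathAt (nodeAt i).2.1) :=
          Equiv.ext fun x => lnum_inj _ _ (by
            rw [pathTab_facts.2 ⟨i, hi⟩ x, Equiv.Perm.mul_apply, genTab_facts.2 ⟨_, hg⟩,
              pathTab_facts.2 ⟨(nodeAt i).2.1, lt_trans hp hi⟩]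
            exact beq_iff_eq.1 (List.all_eq_true.1 e2 _ (List.mem_range.2 (lnum_lt x))))
        rw [this]
        exact (gen_perm hg).mul htp

theorem mem_longs {n : ℕ} (h : n ∈ longs) : ∃ i < 75, (nodeAt i).1 = n := by
  obtain ⟨i, hi, rfl⟩ := List.getElem_of_mem h
  simp only [longs, List.length_map] at hi
  refine ⟨i, tree_facts.2.2.1 ▸ hi, ?_⟩
  simp only [nodeAt, longs, List.getElem_map]
  rw [List.getD_eq_getElem _ _ hi]

/-- The orbit of the standard class consists of long classes. -/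
theorem orbit_std (x : ↥S5.cent) : ∃ i < 75, S5.actc x (ofIdx 8 128) = ofIdx 8 (nodeAt i).1 := by
  set v := (x : Co0) • eight none with hv
  have hfix : S5.P • v = v := S5.fixed_smul x.2 S5.std_fix
  have hn : sqNorm (v : GolayPt → ℤ) = 64 := (co0_norm _ _).trans (sqNorm_eight none)
  have hcl : S5.actc x (ofIdx 8 128) = ofIdx 8 (clsIdx (v : GolayPt → ℤ)) := by
    rw [← cls_eq, ← cls_std, S5.actc_cls x (v := eight none) S5.std_fix, hv]
  have hlt : clsIdx (v : GolayPt → ℤ) < 256 := by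
    refine lt_of_le_of_lt (Finset.sum_le_sum fun j _ => ?_) (show ∑ j : Fin 8, 2 ^ (j : ℕ) < 256 by decide)
    split_ifs <;> simp
  have := class_cases ⟨_, hlt⟩
  simp only [Bool.or_eq_true, List.contains_iff_mem] at this
  rcases this with h | h
  · obtain ⟨i, hi, e⟩ := mem_longs h
    exact ⟨i, hi, by rw [hcl, e]⟩
  · exfalso
    obtain ⟨⟨m, l⟩, hl, e⟩ := List.mem_map.1 h
    have hs := List.all_eq_true.1 short_facts _ hl
    simp only [Bool.and_eq_true, decide_eq_true_eq, beq_iff_eq] at hs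
    set u : leechLattice := ⟨_, leechTest_spec hs.1.1⟩ with hu
    have hufix : S5.P • u = u := (fixed_iff u).2 fun p => by
      show orbVec l (fnPt fiveElt p) = orbVec l p
      rw [orbVec, orb_facts.1 p]; rfl
    have hc : S5.cls u = S5.cls v := by
      rw [cls_eq, cls_eq, show clsIdx (u : GolayPt → ℤ) = clsIdx (v : GolayPt → ℤ) from hs.2.trans e]
    have := ((S5.cls_eq_iff hufix hfix).1 hc).norm_eq (by simpa [hu] using hs.1.2.le) hn.le
    rw [hn] at this
    have h2 : sqNorm (u : GolayPt → ℤ) < 64 := hs.1.2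
    omega

/-- An element fixing the standard class is monomial. -/
theorem mono_of_fix {m : ↥S5.cent} (h : S5.actc m (ofIdx 8 128) = ofIdx 8 128) :
    ∃ k : Fin 60, ∃ j : Fin 16, m = sgnGen j * prmGen k := by
  have hs : Cong (eight none) ((m : Co0) • eight none) := by
    refine (S5.cls_eq_iff S5.std_fix (S5.fixed_smul m.2 S5.std_fix)).1 ?_
    rw [← cls_std, S5.actc_cls m (v := eight none) S5.std_fix] at h
    exact h.symm
  obtain ⟨τ, hτ, c, hc, e⟩ := exists_monoAut (mem_crossStab_of_cong hs)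
  obtain ⟨h1, h2⟩ := (Prime.mono_comm_prm rho_mem hτ hc).1 (e ▸ m.2)
  obtain ⟨code, hcode, hperm⟩ := exists_centFive hτ h1
  obtain ⟨k, hk, rfl⟩ := List.getElem_of_mem hcode
  have hk60 : k < 60 := centFive_facts.1 ▸ hk
  have hmask : ∃ mk ∈ fiveMasks, pts mk = c := by
    refine ⟨maskPts c, ?_, pts_maskPts c⟩
    have e' : permMask fiveElt (maskPts c) = maskPts c := by
      refine eq_of_pts_eq (permMask_lt fiveElt_code _) (maskPts_lt c) ?_
      rw [← smul_pts fiveElt_code, pts_maskPts]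
      ext p
      obtain ⟨q, rfl⟩ := rho.surjective p
      rw [h2 q]
      exact Finset.smul_mem_smul_finset_iff (permOf fiveElt)
    have := List.all_eq_true.1 fiveMask_facts.1 _ ((mem_supports_iff c).1 hc)
    simp only [Bool.or_eq_true, Bool.not_eq_true', beq_eq_false_iff_ne, List.contains_iff_mem] at this
    exact this.resolve_left fun h' => h' e'
  obtain ⟨mk, hmk, rfl⟩ := hmask
  obtain ⟨j, hj, rfl⟩ := List.getElem_of_mem hmk
  have hj16 : j < 16 := fiveMask_facts.2.2.2 ▸ hj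
  refine ⟨⟨k, hk60⟩, ⟨j, hj16⟩, Subtype.ext ?_⟩
  rw [e, monoAut_eq, Subgroup.coe_mul]
  have ek : prmAut hτ = ((prmGen ⟨k, hk60⟩ : ↥S5.cent) : Co0) :=
    prmAut_congr (hσ := hτ) (hτ := (centFive_spec (code_getD hk60)).2.1) (by rw [← hperm, List.getD_eq_getElem _ _ hk])
  rw [ek]
  congr 1
  show sgnAut hc = sgnAut (mask_spec (mask_getD hj16)).1
  simp only [List.getD_eq_getElem _ _ hj]

theorem gen_prm (k : Fin 60) : gen (1 + k) = prmGen k := by
  rw [gen, if_neg (by omega), dif_pos (by omega)]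
  exact congrArg prmGen (Fin.ext (by simp))

theorem gen_sgn (j : Fin 16) : gen (61 + j) = sgnGen j := by
  rw [gen, if_neg (by omega), dif_neg (by omega), dif_pos (by omega)]
  exact congrArg sgnGen (Fin.ext (by simp))

theorem good_top (x : ↥S5.cent) : x ∈ Good := by
  obtain ⟨i, hi, he⟩ := orbit_std x
  obtain ⟨t, ht, htc, -⟩ := reach i hi
  obtain ⟨k, j, hm⟩ := mono_of_fix (m := t⁻¹ * x) (by
    rw [S5.actc_mul, he, ← htc, ← S5.actc_mul, inv_mul_cancel, S5.actc_one])
  rw [show x = t * (sgnGen j * prmGen k) by rw [← hm, mul_inv_cancel_left]]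
  exact mul_mem ht (mul_mem (gen_sgn j ▸ gen_good (by omega)) (gen_prm k ▸ gen_good (by omega)))

/-- The action on the ten subspaces. -/
def act10 : ↥S5.cent →* alternatingFiveWreathTwo :=
  MonoidHom.mk' (fun x => ⟨(good_top x).choose, (good_top x).choose_spec.1⟩) fun x y => Subtype.ext
    ((good_top (x * y)).choose_spec.2.unique ((good_top x).choose_spec.2.mul (good_top y).choose_spec.2))

theorem act10_spec (x : ↥S5.cent) : HasPerm x (act10 x : Equiv.Perm (Fin 5 ⊕ Fin 5)) := (good_top x).choose_spec.2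

theorem act10_eq_one {x : ↥S5.cent} (h : HasPerm x 1) : act10 x = 1 := Subtype.ext ((act10_spec x).unique h)

theorem act10_triv {x : ↥S5.cent} (h : ∀ v : leechLattice, S5.P • v = v → Cong v ((x : Co0) • v)) : act10 x = 1 :=
  act10_eq_one fun l a ha => by rw [S5.actc_eq_self h]; exact ha

theorem P5_pow_perm (m : ℕ) : P5 ^ m = prmAut ((⟨rho, rho_mem⟩ ^ m : M24) : _).2 := by
  rw [P5_pow]; rfl

theorem kernel_cases (x : ↥S5.cent) (hx : act10 x = 1) :
    ∃ k : ℕ, (x : Co0) = S5.P ^ k ∨ (x : Co0) = negAut * S5.P ^ k := by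
  have hp : HasPerm x 1 := by
    have := act10_spec x
    rwa [hx] at this
  obtain ⟨i, hi, he⟩ := orbit_std x
  have hlt : (nodeAt i).1 < 256 := by
    have h : ∀ i : Fin 75, (nodeAt i).1 < 256 := by decide +kernel
    exact h ⟨i, hi⟩
  have hi3 : i ∈ [0, 72, 74] := line_facts.2.2 ⟨i, hi⟩ (List.all_eq_true.2 fun q hq => by
    obtain ⟨l, hl⟩ := exists_lnum ⟨q, List.mem_range.1 hq⟩
    simp only at hl
    subst hl
    simp only [Bool.or_eq_true, Bool.not_eq_true', List.contains_iff_mem]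
    by_cases h : 128 ∈ lineOf (lnum l)
    · right
      have := hp l (ofIdx 8 128) (mem_lineSet.2 ⟨_, h, rfl⟩)
      rw [he] at this
      obtain ⟨n, hn, en⟩ := mem_lineSet.1 this
      exact ofIdx_inj (line_lt hn) hlt en ▸ hn
    · exact Or.inl (by simpa using h))
  obtain ⟨t, -, htc, htp⟩ := reach i hi
  obtain ⟨k, j, hm⟩ := mono_of_fix (m := t⁻¹ * x) (by
    rw [S5.actc_mul, he, ← htc, ← S5.actc_mul, inv_mul_cancel, S5.actc_one])
  have hxe : x = t * (sgnGen j * prmGen k) := by rw [← hm, mul_inv_cancel_left]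
  have hj61 : 61 + (j : ℕ) < 77 := by omega
  have hk1 : 1 + (k : ℕ) < 77 := by omega
  have hperm : HasPerm x (tabPerm (pathAt i) * (tabPerm (genAt (61 + j)) * tabPerm (genAt (1 + k)))) := by
    rw [hxe, ← gen_sgn, ← gen_prm]
    exact htp.mul ((gen_perm hj61).mul (gen_perm hk1))
  have e1 := hperm.unique hp
  have hcond : (List.range 10).all (fun q =>
      rawApply (pathAt i) (rawApply (genAt (61 + j)) (rawApply (genAt (1 + k)) q)) == q) = true := by
    refine List.all_eq_true.2 fun q hq => ?_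
    obtain ⟨l, hl⟩ := exists_lnum ⟨q, List.mem_range.1 hq⟩
    simp only at hl
    subst hl
    rw [beq_iff_eq, ← genTab_facts.2 ⟨_, hk1⟩, ← genTab_facts.2 ⟨_, hj61⟩, ← pathTab_facts.2 ⟨i, hi⟩]
    exact congrArg lnum (Equiv.ext_iff.1 e1 l)
  have hk := List.all_eq_true.1 (List.all_eq_true.1 (List.all_eq_true.1 kernel_facts i hi3) k
    (List.mem_range.2 k.2)) j (List.mem_range.2 j.2)
  rw [hcond] at hk
  simp only [Bool.not_true, Bool.false_or, Bool.and_eq_true, Bool.or_eq_true, beq_iff_eq,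
    List.contains_iff_mem] at hk
  obtain ⟨hi0, -, -⟩ := hk
  subst hi0
  obtain ⟨k', j', hm'⟩ := mono_of_fix (m := x) (by rw [he, (tree_facts.1 ⟨0, hi⟩ rfl).1])
  have hk1' : 1 + (k' : ℕ) < 77 := by omega
  have hj61' : 61 + (j' : ℕ) < 77 := by omega
  have e2 : tabPerm (genAt (61 + j')) * tabPerm (genAt (1 + k')) = 1 := by
    refine HasPerm.unique ?_ hp
    rw [hm', ← gen_sgn, ← gen_prm]
    exact (gen_perm hj61').mul (gen_perm hk1')
  have hcond' : (List.range 10).all (fun q =>
      rawApply (pathAt 0) (rawApply (genAt (61 + j')) (rawApply (genAt (1 + k')) q)) == q) = true := by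
    refine List.all_eq_true.2 fun q hq => ?_
    obtain ⟨l, hl⟩ := exists_lnum ⟨q, List.mem_range.1 hq⟩
    simp only at hl
    subst hl
    rw [beq_iff_eq, ← genTab_facts.2 ⟨_, hk1'⟩, ← genTab_facts.2 ⟨_, hj61'⟩, ← Equiv.Perm.mul_apply, e2]
    exact beq_iff_eq.1 (List.all_eq_true.1 (tree_facts.1 ⟨0, hi⟩ rfl).2 _ (List.mem_range.2 (lnum_lt l)))
  have hk' := List.all_eq_true.1 (List.all_eq_true.1 (List.all_eq_true.1 kernel_facts 0 (by decide)) k'
    (List.mem_range.2 k'.2)) j' (List.mem_range.2 j'.2)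
  rw [hcond'] at hk'
  simp only [Bool.not_true, Bool.false_or, Bool.and_eq_true, Bool.or_eq_true, beq_iff_eq,
    List.contains_iff_mem] at hk'
  obtain ⟨-, hpow', hmask'⟩ := hk'
  obtain ⟨m', hm5'', em'⟩ := List.getElem_of_mem hpow'
  have eP' : ((prmGen k' : ↥S5.cent) : Co0) = S5.P ^ m' := by
    show _ = P5 ^ m'
    rw [P5_pow]
    refine prmAut_congr (hσ := (centFive_spec (code_getD k'.2)).2.1) (hτ := (⟨rho, rho_mem⟩ ^ m' : M24).2) ?_
    rw [← em', ← List.getD_eq_getElem _ 0 hm5'']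
    exact (fivePows_perm hm5'').1
  refine ⟨m', ?_⟩
  rw [hm', Subgroup.coe_mul, eP']
  rcases hmask' with h | h
  · left
    have : ((sgnGen j' : ↥S5.cent) : Co0) = 1 := co0_eq fun v p => by
      show ((sgnAut (mask_spec (mask_getD j'.2)).1 • v : leechLattice) : GolayPt → ℤ) p = _
      rw [sgnAut_smul, one_smul, if_neg]
      rw [h, pts_zero_eq]
      simp
    rw [this, one_mul]
  · right
    have : ((sgnGen j' : ↥S5.cent) : Co0) = negAut := co0_eq fun v p => by
      show ((sgnAut (mask_spec (mask_getD j'.2)).1 • v : leechLattice) : GolayPt → ℤ) p = _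
      rw [sgnAut_smul, negAut_smul, if_pos]
      · simp
      · rw [h, mem_pts]; exact fullMask_testBit _ (ptIdx_lt p)
    rw [this]

theorem act10_surjective : Function.Surjective act10 := by
  classical
  refine MonoidHom.range_eq_top.1 (eq_top_of_le_card _ ?_)
  choose t ht htc htp using reach
  let f : Fin 75 × Fin 60 × Fin 16 → ↥S5.cent := fun q => t q.1 q.1.2 * (sgnGen q.2.2 * prmGen q.2.1)
  have hfix : ∀ (k : Fin 60) (j : Fin 16), S5.actc (sgnGen j * prmGen k) (ofIdx 8 128) = ofIdx 8 128 := by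
    intro k j
    rw [← cls_std, S5.actc_cls _ (v := eight none) S5.std_fix]
    refine (S5.cls_cong (cong_of_mem_crossStab ?_)).symm
    show ((sgnGen j : ↥S5.cent) : Co0) * ((prmGen k : ↥S5.cent) : Co0) ∈ crossStab
    exact mul_mem (monoAut_preserves M24.one_mem (mask_spec (mask_getD j.2)).1)
      (monoAut_preserves (centFive_spec (code_getD k.2)).2.1 Cfsg.Spor.empty_mem_supports_golayCode)
  have hinj : Function.Injective f := by
    rintro ⟨i, k, j⟩ ⟨i', k', j'⟩ h
    have h' := congrArg (fun g => S5.actc g (ofIdx 8 128)) h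
    simp only [f] at h'
    rw [S5.actc_mul, S5.actc_mul (t i' i'.2), hfix, hfix, htc, htc] at h'
    have hn : ∀ i : Fin 75, (nodeAt i).1 < 256 := by decide +kernel
    have hii : i = i' := by
      have e := ofIdx_inj (hn i) (hn i') h'
      refine Fin.ext ?_
      have hl : ∀ a : Fin 75, (a : ℕ) < (treeTab.map Prod.fst).length := fun a => by
        rw [List.length_map, tree_facts.2.2.1]; exact a.2
      refine (tree_facts.2.2.2.getElem_inj_iff (hi := hl i) (hj := hl i')).1 ?_
      have hg : ∀ a : Fin 75, (nodeAt a).1 = (treeTab.map Prod.fst)[(a : ℕ)]'(hl a) := fun a => by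
        rw [nodeAt, List.getD_eq_getElem _ _ (show (a : ℕ) < treeTab.length from tree_facts.2.2.1.symm ▸ a.2),
          List.getElem_map]
      rw [← hg i, ← hg i']
      exact e
    subst hii
    have e := congrArg Subtype.val (mul_left_cancel h)
    simp only [Subgroup.coe_mul, prmGen, sgnGen, ← monoAut_eq] at e
    obtain ⟨e1, e2⟩ := monoAut_inj e
    have hkk : centFive.getD (k : ℕ) 0 = centFive.getD (k' : ℕ) 0 :=
      permOf_inj_normal (centFive_spec (code_getD k.2)).1 (centFive_spec (code_getD k'.2)).1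
        (centFive_spec (code_getD k.2)).2.2.1 (centFive_spec (code_getD k'.2)).2.2.1 e1
    have hjj : fiveMasks.getD (j : ℕ) 0 = fiveMasks.getD (j' : ℕ) 0 :=
      eq_of_pts_eq (mask_spec (mask_getD j.2)).2.2 (mask_spec (mask_getD j'.2)).2.2 e2
    refine Prod.ext rfl (Prod.ext (Fin.ext ?_) (Fin.ext ?_))
    · rw [List.getD_eq_getElem _ _ (centFive_facts.1.symm ▸ k.2), List.getD_eq_getElem _ _
        (centFive_facts.1.symm ▸ k'.2), centFive_facts.2.1.getElem_inj_iff] at hkk
      exact hkk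
    · rw [List.getD_eq_getElem _ _ (fiveMask_facts.2.2.2.symm ▸ j.2), List.getD_eq_getElem _ _
        (fiveMask_facts.2.2.2.symm ▸ j'.2), fiveMask_facts.2.2.1.getElem_inj_iff] at hjj
      exact hjj
  have h1 : 72000 ≤ Nat.card ↥S5.cent := by
    refine le_trans (le_of_eq ?_) (Nat.card_le_card_of_injective f hinj)
    simp [Nat.card_eq_fintype_card]
  have h2 : Nat.card act10.ker ≤ 10 := by
    let g : Fin 5 × Bool → Co0 := fun q => (if q.2 then negAut else 1) * S5.P ^ (q.1 : ℕ)
    have h : ∀ x : act10.ker, ∃ q, ((x : ↥S5.cent) : Co0) = g q := fun x => by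
      obtain ⟨k, hk⟩ := kernel_cases x x.2
      have e : S5.P ^ k = S5.P ^ (k % 5) := by
        conv_lhs => rw [← Nat.mod_add_div k 5, pow_add, pow_mul, S5.hpow, one_pow, mul_one]
      rcases hk with hk | hk
      · exact ⟨(⟨k % 5, Nat.mod_lt _ (by norm_num)⟩, false), by simp [g, hk, e]⟩
      · exact ⟨(⟨k % 5, Nat.mod_lt _ (by norm_num)⟩, true), by simp [g, hk, e]⟩
    choose q hq using h
    refine le_trans (Nat.card_le_card_of_injective q fun a c hac => ?_) (le_of_eq (by simp [Nat.card_eq_fintype_card]))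
    exact Subtype.ext (Subtype.ext (by rw [hq, hq, hac]))
  have hk := act10.ker.card_mul_index
  rw [index_ker] at hk
  have h3 := card_wreath_le
  nlinarith

/-- The action, for the generic setting. -/
def act5 : Prime.Act S5 alternatingFiveWreathTwo where
  χ := act10
  surj := act10_surjective
  neg := act10_triv fun v _ => by
    show Cong v (negAut • v)
    rw [negAut_smul]; exact Cong.neg v
  self := act10_triv fun v hv => by
    show Cong v (S5.P • v)
    rw [hv]; exact Cong.refl v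
  triv _ h := act10_triv h
  ker := kernel_cases
  nonormal := wreath_nonormal

end

end CfsgLib.Spor.MonsterType.Five
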