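import Cfsg.Agent.Lib.Spor.MonsterType.Five.Certs
import Cfsg.Agent.Lib.Spor.MonsterType.Prime.Mono

/-!
# The fixed lattice of the element of order five, and generators of its centralizer
-/

set_option autoImplicit false

namespace CfsgLib.Spor.MonsterType.Five

open Subgroup CfsgLib.Spor CfsgLib.Spor.Leech CfsgLib.Spor.MonsterType.Seven
open CfsgLib.Spor.MonsterType.Prime (Std ofIdx toIdx xorCols)
open Cfsg (leechLattice Co0 sqNorm GolayPt M24 supports golayCode dotInt)
open scoped Pointwise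

noncomputable section

/-- The automorphism of order five. -/
def P5 : Co0 := prmAut rho_mem

theorem P5_pow (k : ℕ) : P5 ^ k = prmHom (⟨rho, rho_mem⟩ ^ k) := by rw [map_pow]; rfl

theorem P5_pow_five : P5 ^ 5 = 1 := by
  rw [P5_pow, show (⟨rho, rho_mem⟩ : M24) ^ 5 = 1 from Subtype.ext rho_pow_five, map_one]

theorem fixed_iff (v : leechLattice) :
    P5 • v = v ↔ ∀ p, (v : GolayPt → ℤ) (fnPt fiveElt p) = (v : GolayPt → ℤ) p := by
  rw [P5, Prime.prm_fixed_iff]; simp only [rho_apply]

/-- The basis vectors. -/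
def Bv (i : Fin 8) : leechLattice := ⟨_, leechTest_spec (bTab_facts.1 i)⟩

/-- The dual vectors. -/
def Wv (i : Fin 8) : leechLattice := ⟨_, leechTest_spec (bTab_facts.2.1 i)⟩

/-- The standard data. -/
def S5 : Std 5 8 where
  P := P5
  hpow := P5_pow_five
  B := Bv
  W := Wv
  fixB i := (fixed_iff _).2 (bTab_facts.2.2.1 i)
  dual := bTab_facts.2.2.2
  expand v hv := by
    refine Prime.expand_of_table orb orbPt (B := Bv) (W := Wv) expand_facts fun q => ?_
    obtain ⟨k, hk⟩ := orb_facts.2 q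
    have hiter : ∀ (k : ℕ) (p : GolayPt), (v : GolayPt → ℤ) ((fnPt fiveElt)^[k] p) = (v : GolayPt → ℤ) p := by
      intro k
      induction k with
      | zero => intro p; rfl
      | succ k ih => intro p; rw [Function.iterate_succ_apply', (fixed_iff v).1 hv, ih]
    conv_rhs => rw [← hk, hiter]
  std := eight none
  std_fix := by rw [P5, Prime.prm_eight, rho_apply, std_facts.2]
  std_norm := sqNorm_eight none

/-- The class from the index computed on the coordinates. -/
theorem cls_eq (v : leechLattice) : S5.cls v = ofIdx 8 (clsIdx (v : GolayPt → ℤ)) := by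
  have key : ∀ f : Fin 8 → Bool, ∀ j : Fin 8, (∑ i : Fin 8, if f i then 2 ^ (i : ℕ) else 0).testBit j = f j := by
    decide +kernel
  funext j
  have hb := key (fun i => decide ((dotInt (v : GolayPt → ℤ) (vecFn (wTab.getD i [])) / 8) % 2 = 1)) j
  simp only [decide_eq_true_eq] at hb
  rw [Prime.ofIdx, clsIdx, hb]
  show ((S5.coord v j : ℤ) : ZMod 2) = _
  have hc : S5.coord v j = dotInt (v : GolayPt → ℤ) (vecFn (wTab.getD j [])) / 8 := rfl
  rw [hc]
  generalize dotInt (v : GolayPt → ℤ) (vecFn (wTab.getD j [])) / 8 = t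
  rcases Int.emod_two_eq_zero_or_one t with h | h
  · rw [if_neg (by simp [h]), (ZMod.intCast_zmod_eq_zero_iff_dvd t 2).2 (by omega)]
  · rw [if_pos (by simp [h]), ← ZMod.intCast_mod]
    show (((t % 2 : ℤ)) : ZMod 2) = 1
    rw [h, Int.cast_one]

theorem cls_std : S5.cls (eight none) = ofIdx 8 128 := by rw [cls_eq, eight, std_facts.1]

theorem cAut5_comm : matAut cTab cTabT cTab_cert cTabT_cert ∈ S5.cent := by
  refine mem_centralizer_singleton_iff.2 (co0_ext fun i => Subtype.ext (funext fun p => ?_))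
  obtain ⟨p, rfl⟩ := rho.surjective p
  show ((_ * P5 : Co0) • eight i : leechLattice).1 _ = ((P5 * _ : Co0) • eight i : leechLattice).1 _
  rw [mul_smul, mul_smul, P5, Prime.prm_eight, Prime.prm_apply, matAut_eight, matAut_eight, rho_apply, rho_apply,
    cTab_comm]

/-- The extra element. -/
def cAut5 : ↥S5.cent := ⟨_, cAut5_comm⟩

theorem code_getD {k : ℕ} (hk : k < 60) : centFive.getD k 0 ∈ centFive := by
  rw [List.getD_eq_getElem _ _ (by rw [centFive_facts.1]; exact hk)]; exact List.getElem_mem _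

/-- The permutation generators. -/
def prmGen (k : Fin 60) : ↥S5.cent :=
  ⟨prmAut (centFive_spec (code_getD k.2)).2.1, (Prime.prmAut_mem_iff rho_mem _).2 (centFive_spec (code_getD k.2)).2.2.2⟩

theorem mask_spec {m : ℕ} (hm : m ∈ fiveMasks) : pts m ∈ supports (golayCode : Set (GolayPt → ZMod 2)) ∧
    (∀ p, (rho p ∈ pts m ↔ p ∈ pts m)) ∧ m < 2 ^ 24 := by
  have h := List.all_eq_true.1 fiveMask_facts.2.1 m hm
  simp only [Bool.and_eq_true, beq_iff_eq, decide_eq_true_eq] at h
  refine ⟨Leech.pts_supports h.1.1, fun p => ?_, h.2⟩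
  have e : permOf fiveElt • pts m = pts m := by rw [smul_pts fiveElt_code, h.1.2]
  conv_lhs => rw [← e]
  exact Finset.smul_mem_smul_finset_iff (permOf fiveElt)

theorem mask_getD {k : ℕ} (hk : k < 16) : fiveMasks.getD k 0 ∈ fiveMasks := by
  rw [List.getD_eq_getElem _ _ (by rw [fiveMask_facts.2.2.2]; exact hk)]; exact List.getElem_mem _

/-- The sign generators. -/
def sgnGen (k : Fin 16) : ↥S5.cent :=
  ⟨sgnAut (mask_spec (mask_getD k.2)).1, (Prime.sgnAut_mem_iff rho_mem _).2 (mask_spec (mask_getD k.2)).2.1⟩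

/-- All the generators. -/
def gen (g : ℕ) : ↥S5.cent :=
  if g = 0 then cAut5 else if h : g - 1 < 60 then prmGen ⟨g - 1, h⟩
    else if h' : g - 61 < 16 then sgnGen ⟨g - 61, h'⟩ else 1

theorem gen_cols {g : ℕ} (hg : g < 77) (n : ℕ) :
    S5.actc (gen g) (ofIdx 8 n) = ofIdx 8 (xorCols (colsAt g) n) := by
  refine S5.actc_idx _ (colTab_len ⟨g, hg⟩) (fun j => ?_) n
  rw [gen]
  split_ifs with h0 h1 h2
  · subst h0
    rw [cls_eq]
    show ofIdx 8 (clsIdx ((matAut cTab cTabT cTab_cert cTabT_cert • Bv j : leechLattice) : GolayPt → ℤ)) = _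
    rw [matAut_smul]
    exact congrArg _ (cls_c j)
  · obtain ⟨k, rfl⟩ : ∃ k, g = 1 + k := ⟨g - 1, by omega⟩
    simp only [Nat.add_sub_cancel_left] at h1 ⊢
    rw [cls_eq, ← cls_prm ⟨k, h1⟩ j]
    refine congrArg _ (Finset.sum_congr rfl fun i _ => ?_)
    have hspec := centFive_spec (code_getD h1)
    have e : dotInt ((prmAut hspec.2.1 • Bv j : leechLattice) : GolayPt → ℤ) (vecFn (wTab.getD i [])) =
        dotPerm (centFive.getD k 0) (vecFn (bTab.getD j [])) (vecFn (wTab.getD i [])) := by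
      rw [dotInt, dotPerm]
      refine (Equiv.sum_comp (permOf (centFive.getD k 0)) _).symm.trans (Finset.sum_congr rfl fun p _ => ?_)
      rw [Prime.prm_apply, permOf_apply hspec.1 p]
      rfl
    show (if dotInt ((prmAut hspec.2.1 • Bv j : leechLattice) : GolayPt → ℤ) _ / 8 % 2 = 1 then _ else _) = _
    rw [e]
  · obtain ⟨k, rfl⟩ : ∃ k, g = 61 + k := ⟨g - 61, by omega⟩
    simp only [Nat.add_sub_cancel_left] at h2 ⊢
    rw [cls_eq, ← cls_sgn ⟨k, h2⟩ j]
    refine congrArg _ (congrArg clsIdx (funext fun p => ?_))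
    show ((sgnAut (mask_spec (mask_getD h2)).1 • Bv j : leechLattice) : GolayPt → ℤ) p = _
    rw [sgnAut_smul]
    simp only [mem_pts]
    rfl
  · omega

end

end CfsgLib.Spor.MonsterType.Five
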