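import Cfsg.Agent.Lib.Spor.MonsterType.Five.Data
import Cfsg.Agent.Lib.Spor.SylowSeven

/-!
# The permutations of the Mathieu group commuting with the element of order five
-/

set_option autoImplicit false

namespace CfsgLib.Spor.MonsterType.Five

open CfsgLib.Spor
open Cfsg (GolayPt M24)

set_option maxRecDepth 100000

/-- The pairs of base indices with the power carrying one to the other. -/
def fiveLinks : List (ℕ × ℕ) := [(2, 1), (3, 4), (4, 3)]

/-- Consistency of base images with commuting with the element of order five. -/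
def okFive (l : List ℕ) : Bool :=
  ([0, 5, 6].all fun i => !(Nat.ble (i + 1) l.length) || (fixMaskOf fiveElt).testBit (l.getD i 0)) &&
    fiveLinks.all fun q => !(Nat.ble (q.1 + 1) l.length) || (permFn (fivePows.getD q.2 0) (l.getD 1 0) == l.getD q.1 0)

theorem fiveElt_facts : isM24Code fiveElt = true ∧
    (List.range 5).all (fun m => fivePows.getD m 0 == powCode fiveElt m) = true ∧
    powCode fiveElt 5 = idPacked ∧ powCode fiveElt 1 ≠ idPacked ∧ permMulCode idPacked fiveElt = fiveElt ∧
    [0, 5, 6].all (fun i => (fixMaskOf fiveElt).testBit (basePts.getD i 0)) = true ∧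
    fiveLinks.all (fun q => decide (q.1 < 7) && (decide (q.2 < 5) &&
      (permFn (fivePows.getD q.2 0) (basePts.getD 1 0) == basePts.getD q.1 0))) = true := by decide +kernel

theorem fiveElt_code : isPermCode fiveElt = true := isPermCode_of_isM24Code fiveElt_facts.1

/-- The permutation of order five. -/
noncomputable def rho : Equiv.Perm GolayPt := permOf fiveElt

theorem rho_mem : rho ∈ M24 := permOf_mem_M24 fiveElt_facts.1

theorem rho_apply (p : GolayPt) : rho p = fnPt fiveElt p := permOf_apply fiveElt_code p

theorem fivePows_perm {m : ℕ} (hm : m < 5) :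
    permOf (fivePows.getD m 0) = rho ^ m ∧ isPermCode (fivePows.getD m 0) = true := by
  rw [beq_iff_eq.1 (List.all_eq_true.1 fiveElt_facts.2.1 m (List.mem_range.2 hm))]
  exact permOf_powCode fiveElt_code m

theorem rho_pow_five : rho ^ 5 = 1 := by
  rw [rho, ← (permOf_powCode fiveElt_code 5).1, fiveElt_facts.2.2.1, permOf_idPacked]

theorem centFive_facts : centFive.length = 60 ∧ centFive.Nodup ∧
    centFive.all (fun c => isM24Code c && (permMulCode idPacked c == c) && commCodes c fiveElt) = true ∧
    (chainCands okFive 7).all (fun c => !(commCodes c fiveElt) || centFive.contains c) = true := by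
  refine ⟨by decide +kernel, by decide +kernel, by decide +kernel, by decide +kernel⟩

theorem centFive_spec {c : ℕ} (h : c ∈ centFive) : isPermCode c = true ∧ permOf c ∈ M24 ∧
    permMulCode idPacked c = c ∧ permOf c * rho = rho * permOf c := by
  have h' := List.all_eq_true.1 centFive_facts.2.2.1 c h
  simp only [Bool.and_eq_true, beq_iff_eq] at h'
  exact ⟨isPermCode_of_isM24Code h'.1.1, permOf_mem_M24 h'.1.1, h'.1.2,
    eq_mul_of_commCodes (isPermCode_of_isM24Code h'.1.1) fiveElt_code h'.2⟩

/-- The list is the whole centralizer. -/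
theorem exists_centFive {τ : Equiv.Perm GolayPt} (hτ : τ ∈ M24) (h : τ * rho = rho * τ) :
    ∃ code ∈ centFive, permOf code = τ := by
  have hpow : ∀ (m : ℕ) (p : GolayPt), τ ((rho ^ m) p) = (rho ^ m) (τ p) := fun m p =>
    congrArg (fun g : Equiv.Perm GolayPt => g p) ((show Commute τ rho from h).pow_right m).eq
  obtain ⟨c, hc, rfl⟩ := exists_cand okFive hτ fun n hn _ => by
    have get : ∀ i < n, ∀ d, ((List.range n).map fun j => ptIdx (τ (bpt j))).getD i d = ptIdx (τ (bpt i)) :=
      fun i hi d => by
        rw [List.getD_eq_getElem _ _ (by simpa using hi), List.getElem_map, List.getElem_range]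
    simp only [okFive, imgsOf, List.length_map, List.length_range, Bool.and_eq_true, List.all_eq_true,
      Bool.or_eq_true, Bool.not_eq_true', beq_iff_eq]
    refine ⟨fun i hi => ?_, fun q hq => ?_⟩
    · by_cases hin : i < n
      swap
      · exact Or.inl (Bool.eq_false_iff.2 fun e => hin (Nat.le_of_ble_eq_true e))
      right
      rw [get i hin]
      have hi7 : i < 7 := by fin_cases hi <;> norm_num
      have hb : bpt i ∈ fixSet rho := by
        rw [rho, fixSet_permOf fiveElt_code, mem_pts, bpt, ptIdx_idxPt _ (basePts_lt i hi7)]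
        exact List.all_eq_true.1 fiveElt_facts.2.2.2.2.2.1 i hi
      have h1 : τ (bpt i) ∈ fixSet rho := Finset.mem_filter.2 ⟨Finset.mem_univ _, by
        have := hpow 1 (bpt i)
        rw [pow_one, (Finset.mem_filter.1 hb).2] at this
        exact this.symm⟩
      rwa [rho, fixSet_permOf fiveElt_code, mem_pts] at h1
    · by_cases hin : q.1 < n
      swap
      · exact Or.inl (Bool.eq_false_iff.2 fun e => hin (Nat.le_of_ble_eq_true e))
      right
      have hf := List.all_eq_true.1 fiveElt_facts.2.2.2.2.2.2 q hq
      simp only [Bool.and_eq_true, decide_eq_true_eq, beq_iff_eq] at hf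
      obtain ⟨h7, h5, he⟩ := hf
      have h1n : 1 < n := by
        fin_cases hq <;> simp at hin <;> omega
      obtain ⟨hp, hpc⟩ := fivePows_perm h5
      rw [get q.1 hin, get 1 h1n]
      have hb : (rho ^ q.2) (bpt 1) = bpt q.1 := by
        rw [← hp, bpt, permOf_idxPt hpc (basePts_lt 1 (by norm_num)), he]
        rfl
      rw [← hb, hpow, ← hp, permFn_eq_ptIdx hpc (ptIdx_lt _), idxPt_ptIdx]
  have hcc := List.all_eq_true.1 centFive_facts.2.2.2 c hc
  rw [commCodes_of (isPermCode_chainCands okFive 7 c hc) fiveElt_code (show permOf c * permOf fiveElt =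
    permOf fiveElt * permOf c from h), Bool.not_true, Bool.false_or, List.contains_iff_mem] at hcc
  exact ⟨c, hcc, rfl⟩

end CfsgLib.Spor.MonsterType.Five
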