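import Cfsg.Agent.Lib.Spor.MonsterType.Five.Cent
import Cfsg.Agent.Lib.Spor.MonsterType.Seven.Classes
import Cfsg.Agent.Lib.Spor.MonsterType.Prime.Lattice

/-!
# Finite checks of the tables for the element of order five
-/

set_option autoImplicit false

namespace CfsgLib.Spor.MonsterType.Five

open CfsgLib.Spor CfsgLib.Spor.Leech
open Cfsg (GolayPt sqNorm dotInt)

set_option maxRecDepth 100000

/-- The vector of a list. -/
def vecFn (l : List ℤ) (p : GolayPt) : ℤ := l.getD (ptIdx p) 0

/-- The orbit of a point. -/
def orb (p : GolayPt) : Fin 8 := ⟨(orbMasks.findIdx fun m => m.testBit (ptIdx p)) % 8, Nat.mod_lt _ (by norm_num)⟩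

/-- A point of an orbit. -/
def orbPt (g : Fin 8) : GolayPt := idxPt (orbPts.getD g 0)

/-- The vector with given values on the orbits. -/
def orbVec (l : List ℤ) (p : GolayPt) : ℤ := l.getD (orb p : ℕ) 0

/-- The index of the class of a vector. -/
def clsIdx (x : GolayPt → ℤ) : ℕ :=
  ∑ j : Fin 8, if (dotInt x (vecFn (wTab.getD j [])) / 8) % 2 = 1 then 2 ^ (j : ℕ) else 0

theorem bTab_facts : (∀ i : Fin 8, leechTest (vecFn (bTab.getD i [])) = true) ∧
    (∀ i : Fin 8, leechTest (vecFn (wTab.getD i [])) = true) ∧
    (∀ i : Fin 8, ∀ p, vecFn (bTab.getD i []) (fnPt fiveElt p) = vecFn (bTab.getD i []) p) ∧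
    (∀ i j : Fin 8, dotInt (vecFn (bTab.getD i [])) (vecFn (wTab.getD j [])) = if i = j then 8 else 0) := by
  refine ⟨by decide +kernel, by decide +kernel, by decide +kernel, by decide +kernel⟩

theorem orb_facts : (∀ p, orb (fnPt fiveElt p) = orb p) ∧
    (∀ p, ∃ k : Fin 5, (fnPt fiveElt)^[(k : ℕ)] (orbPt (orb p)) = p) := by
  refine ⟨by decide +kernel, by decide +kernel⟩

theorem expand_facts : ∀ g q, ∑ j : Fin 8, dotInt (Prime.indVec orb g) (vecFn (wTab.getD j [])) *
    vecFn (bTab.getD j []) q = if orb q = g then 8 else 0 := by decide +kernel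

theorem cTab_cert : MatCert cTab cTabT :=
  ⟨by decide +kernel, by decide +kernel, by decide +kernel, by decide +kernel, by decide +kernel⟩

theorem cTabT_cert : MatCert cTabT cTab :=
  ⟨by decide +kernel, by decide +kernel, by decide +kernel, by decide +kernel, by decide +kernel⟩

theorem cTab_comm : ∀ i p, tabEntry cTab (fnPt fiveElt i) (fnPt fiveElt p) = tabEntry cTab i p := by decide +kernel

/-- The columns of a generator. -/
def colsAt (g : ℕ) : List ℕ := colTab.getD g []

/-- The inner product of a permuted vector. -/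
def dotPerm (code : ℕ) (x w : GolayPt → ℤ) : ℤ := ∑ p, x p * w (fnPt code p)

/-- The index of the class of a permuted vector. -/
def clsPerm (code : ℕ) (x : GolayPt → ℤ) : ℕ :=
  ∑ j : Fin 8, if (dotPerm code x (vecFn (wTab.getD j [])) / 8) % 2 = 1 then 2 ^ (j : ℕ) else 0

theorem cls_c : ∀ j : Fin 8, clsIdx (matVec cTab (vecFn (bTab.getD j []))) = (colsAt 0).getD j 0 := by
  decide +kernel

theorem cls_prm : ∀ k : Fin 60, ∀ j : Fin 8,
    clsPerm (centFive.getD k 0) (vecFn (bTab.getD j [])) = (colsAt (1 + k)).getD j 0 := by decide +kernel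

theorem cls_sgn : ∀ k : Fin 16, ∀ j : Fin 8,
    clsIdx (fun p => if (fiveMasks.getD k 0).testBit (ptIdx p) then -vecFn (bTab.getD j []) p
      else vecFn (bTab.getD j []) p) = (colsAt (61 + k)).getD j 0 := by decide +kernel

theorem colTab_len : ∀ g : Fin 77, (colsAt g).length = 8 := by decide +kernel

theorem std_facts : clsIdx (Pi.single none 8) = 128 ∧ fnPt fiveElt none = none := by decide +kernel

theorem fiveMask_facts : codeList.all (fun m => !(permMask fiveElt m == m) || fiveMasks.contains m) = true ∧
    fiveMasks.all (fun m => codeTest m && (permMask fiveElt m == m) && decide (m < 2 ^ 24)) = true ∧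
    fiveMasks.Nodup ∧ fiveMasks.length = 16 := by
  refine ⟨by decide +kernel, by decide +kernel, by decide +kernel, by decide +kernel⟩

theorem short_facts : shortTab.all (fun e => leechTest (orbVec e.2) && decide (sqNorm (orbVec e.2) < 64) &&
    (clsIdx (orbVec e.2) == e.1)) = true := by decide +kernel

/-- The long classes. -/
def longs : List ℕ := treeTab.map fun e => e.1

theorem class_cases : ∀ n : Fin 256, longs.contains (n : ℕ) || (shortTab.map Prod.fst).contains (n : ℕ) := by
  decide +kernel

end CfsgLib.Spor.MonsterType.Five
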