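import Cfsg.Agent.Lib.Spor.Leech.MatAut

/-!
# Tables: the lattice fixed by an element of order five, its monomial centralizer, and one more automorphism
-/

set_option autoImplicit false

namespace CfsgLib.Spor.MonsterType.Five

/-- An element of order five with four fixed points. -/
def fiveElt : ℕ := 0xbca095b22a98eb43a2cd33ca4101c1

/-- Its powers. -/
def fivePows : List ℕ := [0xbdab49ca307b9ac5a928398a418820, 0xbca095b22a98eb43a2cd33ca4101c1, 0xbb1563d22858a09336557cca40046e, 0xbd1123262d381567d5909aca40b843, 0xba5ac7da35305129c28a59ca470c02]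

/-- The orbits of the element on the points. -/
def orbMasks : List ℕ := [16, 32, 131072, 8388608, 16399, 559296, 2172160, 5509632]

/-- A point in each orbit. -/
def orbPts : List ℕ := [4, 5, 17, 23, 0, 6, 8, 9]

/-- A basis of the fixed lattice. -/
def bTab : List (List ℤ) := [
    [1, 1, 1, 1, 3, 1, -1, -1, -1, -1, -1, -1, -1, -1, 1, -1, -1, 1, -1, -1, -1, -1, -1, 1],
    [0, 0, 0, 0, 2, 2, 0, 0, 0, 2, 0, 0, 2, 0, 0, 0, 0, 2, 2, 0, 2, 0, 2, 0],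
    [0, 0, 0, 0, 0, 2, 2, 2, 2, 0, 2, 2, 0, 2, 0, 2, 2, 2, 0, 2, 0, 2, 0, 0],
    [0, 0, 0, 0, 0, 0, 4, 4, 0, 4, 0, 4, 4, 0, 0, 4, 0, 0, 4, 4, 4, 0, 4, 0],
    [0, 0, 0, 0, 0, 0, 0, 0, 2, 2, 2, 0, 2, 2, 0, 0, 2, 2, 2, 0, 2, 2, 2, 2],
    [0, 0, 0, 0, 0, 0, 0, 0, 0, 4, 0, 0, 4, 0, 0, 0, 0, 4, 4, 0, 4, 0, 4, 0],
    [0, 0, 0, 0, 0, 0, 0, 0, 0, 0, 0, 0, 0, 0, 0, 0, 0, 4, 0, 0, 0, 0, 0, 4],
    [0, 0, 0, 0, 0, 0, 0, 0, 0, 0, 0, 0, 0, 0, 0, 0, 0, 0, 0, 0, 0, 0, 0, 8]]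

/-- The dual vectors. -/
def wTab : List (List ℤ) := [
    [6, 2, 2, -6, 0, 0, -2, 0, 0, -8, -2, -4, 2, 2, 4, 4, 2, 0, 4, 2, 0, -2, 2, 0],
    [-4, 0, 2, -2, 4, 0, -4, 0, 0, 0, 0, 2, 0, 2, -8, 0, -2, 0, 0, 2, 2, 0, -2, 0],
    [2, 2, 4, 2, -4, 4, -4, 4, 4, -2, 4, 2, 2, -2, -2, -4, -4, 0, 0, 2, 2, -2, -2, 0],
    [0, -2, -2, 0, 2, -2, 6, -2, -2, 0, -2, -2, -2, 0, 2, 2, 2, 0, 2, -2, 0, 2, 0, 0],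
    [-2, 0, -2, -2, 4, -4, -2, -2, -2, -4, 0, -2, 4, 0, 2, 2, 2, 0, 0, 4, -2, 4, 2, 0],
    [2, 2, 2, 6, -6, 4, -2, 2, 2, -2, -2, -2, -2, 0, 0, -2, -2, 0, 0, 2, 4, 0, 2, 0],
    [-2, -2, -2, -2, 4, -4, 2, -2, -2, 0, -2, 0, 0, 0, -2, 0, 4, 2, 0, 2, 0, 0, -2, 0],
    [-1, 1, 3, 5, -3, 3, -5, 3, 3, 5, 1, 1, -5, -1, -3, -3, -7, -1, 1, 3, 1, 3, -1, 1]]

/-- Short vectors, by their values on the orbits, in the classes that are not long. -/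
def shortTab : List (ℕ × List ℤ) := [
  (0, [0, 0, 0, 0, 0, 0, 0, 0]),
  (1, [-3, -1, -1, -1, -1, 1, 1, 1]),
  (2, [-2, -2, -2, 0, 0, 0, 0, -2]),
  (4, [0, -2, -2, 0, 0, -2, -2, 0]),
  (5, [-3, -3, -3, -1, -1, -1, -1, 1]),
  (8, [0, -4, 0, -4, 0, 0, 0, 0]),
  (9, [-3, 3, -1, 3, -1, 1, 1, 1]),
  (10, [-2, 2, -2, 4, 0, 0, 0, -2]),
  (13, [-3, 1, -3, 3, -1, -1, -1, 1]),
  (14, [0, -2, 2, 2, -2, 0, 0, 0]),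
  (15, [-3, 1, -3, -3, 1, 1, 1, 1]),
  (16, [0, 0, -2, -2, 0, 0, -2, -2]),
  (17, [-3, -1, -3, -3, -1, 1, -1, -1]),
  (18, [-2, -2, 0, 2, 0, 0, 2, 0]),
  (19, [-1, 1, -1, -3, -1, 1, -1, 1]),
  (20, [0, -2, 0, 2, 0, -2, 0, 2]),
  (21, [-1, -1, 5, -1, 1, 1, -1, 1]),
  (22, [-2, -4, -2, 2, 0, -2, 0, 0]),
  (23, [-3, -3, 3, -1, 1, 1, -1, -1]),
  (25, [-3, 3, -3, 1, -1, 1, -1, -1]),
  (27, [-1, 5, -1, 1, -1, 1, -1, 1]),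
  (28, [-2, 0, -2, 0, 2, 0, 2, 0]),
  (31, [-3, 1, 3, 3, 1, 1, -1, -1]),
  (32, [-4, -4, 0, 0, 0, 0, 0, 0]),
  (33, [-1, -3, 1, 1, 1, -1, -1, -1]),
  (34, [-2, -2, 2, 0, 0, 0, 0, 2]),
  (35, [-1, 1, -3, -1, -1, 1, 1, -1]),
  (37, [-1, -1, 3, 1, 1, 1, 1, -1]),
  (38, [-4, 2, -2, 2, 2, 0, 0, 0]),
  (39, [-1, -1, -5, -1, -1, -1, -1, -1]),
  (40, [-4, 0, 0, 4, 0, 0, 0, 0]),
  (41, [-1, 1, 1, 5, 1, -1, -1, -1]),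
  (42, [-2, 2, 2, 4, 0, 0, 0, 2]),
  (44, [-2, 0, 0, -2, 2, 0, 0, 2]),
  (46, [-4, -2, -2, -2, 2, 0, 0, 0]),
  (48, [0, 0, -2, 2, 0, 0, 2, -2]),
  (49, [-1, -3, 3, 3, 1, -1, 1, 1]),
  (50, [-2, -2, 0, -2, 0, 0, -2, 0]),
  (54, [-2, 0, 2, -2, 0, 2, 0, 0]),
  (55, [-1, -1, -3, 1, -1, -1, 1, 1]),
  (57, [-1, 1, -5, -1, 1, -1, 1, 1]),
  (58, [-2, 2, 0, 2, 0, 0, -2, 0]),
  (59, [-5, 1, -1, 1, -1, 1, -1, 1]),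
  (61, [-3, 1, 3, -3, -1, -1, 1, -1]),
  (62, [-2, 4, 2, 2, 0, 2, 0, 0]),
  (64, [0, 0, -4, -4, 0, 0, 0, 0]),
  (65, [-3, -1, 3, 3, -1, 1, 1, 1]),
  (66, [-2, -2, 2, 4, 0, 0, 0, -2]),
  (69, [-3, -3, 1, 3, -1, -1, -1, 1]),
  (70, [0, -2, 2, -2, 2, 0, 0, 0]),
  (71, [-3, -3, 1, -3, 1, 1, 1, 1]),
  (72, [0, -4, 4, 0, 0, 0, 0, 0]),
  (75, [-3, -1, -1, 1, 1, -1, -1, 1]),
  (76, [-2, 0, 0, 2, 2, 0, 0, -2]),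
  (77, [-5, -1, -1, 1, 1, 1, 1, -1]),
  (78, [0, -2, -2, -2, -2, 0, 0, 0]),
  (79, [-3, 1, 1, 1, 1, 1, 1, 1]),
  (80, [0, 0, -2, -2, 0, 0, 2, 2]),
  (81, [-3, -1, 1, 1, -1, 1, -1, -1]),
  (82, [-2, -2, -4, -2, 0, 0, 2, 0]),
  (83, [-1, 1, 3, 1, -1, 1, -1, 1]),
  (85, [-1, -1, 1, -5, 1, 1, -1, 1]),
  (86, [-2, 4, 2, -2, 0, -2, 0, 0]),
  (90, [-2, 2, -4, 2, 0, 0, 2, 0]),
  (91, [-1, -3, 3, -3, -1, 1, -1, 1]),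
  (93, [-1, 3, 1, -1, 1, 1, -1, 1]),
  (95, [-3, 1, -1, -1, 1, 1, -1, -1]),
  (97, [-1, -3, -3, -3, 1, -1, -1, -1]),
  (98, [-2, -2, -2, -4, 0, 0, 0, 2]),
  (99, [-1, 1, 1, 3, -1, 1, 1, -1]),
  (100, [-2, 0, 0, 2, -2, 0, 0, 2]),
  (101, [-1, -1, -1, -3, 1, 1, 1, -1]),
  (102, [-4, -2, -2, 2, -2, 0, 0, 0]),
  (103, [-1, -1, -1, 3, -1, -1, -1, -1]),
  (104, [-4, 0, -4, 0, 0, 0, 0, 0]),
  (105, [-1, 1, -3, 1, 1, -1, -1, -1]),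
  (106, [-2, 2, -2, 0, 0, 0, 0, 2]),
  (107, [-1, -3, 1, -1, -1, 1, 1, -1]),
  (109, [-1, 3, -1, 1, 1, 1, 1, -1]),
  (110, [-4, -2, 2, 2, 2, 0, 0, 0]),
  (111, [-1, -5, -1, -1, -1, -1, -1, -1]),
  (112, [-2, 2, 0, 0, -2, 2, 0, 0]),
  (113, [-1, -3, -1, -1, 1, -1, 1, 1]),
  (114, [-2, -2, 4, 2, 0, 0, -2, 0]),
  (116, [-2, 0, -2, 0, -2, 0, -2, 0]),
  (119, [-1, -1, 1, 5, -1, -1, 1, 1]),
  (121, [-1, 1, -1, 3, 1, -1, 1, 1]),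
  (122, [-2, 2, -4, -2, 0, 0, -2, 0]),
  (123, [-3, -1, -3, 3, 1, -1, 1, -1]),
  (124, [-2, 0, 2, 0, 2, 0, -2, 0]),
  (125, [-5, -1, 1, -1, 1, 1, -1, 1]),
  (126, [-2, 4, -2, -2, 0, 2, 0, 0]),
  (127, [-1, -5, 1, 1, -1, -1, 1, 1]),
  (129, [-5, 1, 1, 1, 1, -1, -1, -1]),
  (131, [-3, 3, 3, 1, 1, -1, -1, 1]),
  (132, [-2, 0, 0, -2, -2, 0, 0, -2]),
  (134, [0, -2, -2, 2, 2, 0, 0, 0]),
  (135, [-3, -3, -3, 1, 1, 1, 1, 1]),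
  (136, [0, -4, 0, 4, 0, 0, 0, 0]),
  (138, [-2, 2, -2, -4, 0, 0, 0, -2]),
  (139, [-3, -1, 3, -3, 1, -1, -1, 1]),
  (144, [-2, -2, 0, 0, -2, -2, 0, 0]),
  (147, [-1, 1, -1, 5, -1, 1, -1, 1]),
  (148, [-2, 0, 2, 0, -2, 0, 2, 0]),
  (149, [-1, -1, -3, -1, 1, 1, -1, 1]),
  (150, [-2, 4, -2, 2, 0, -2, 0, 0]),
  (154, [-2, 2, 0, -2, 0, 0, 2, 0]),
  (155, [-1, -3, -1, 1, -1, 1, -1, 1]),
  (156, [0, -2, 0, 2, 0, 2, 0, -2]),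
  (157, [-1, 3, -3, 3, 1, 1, -1, 1]),
  (158, [-2, 0, -2, -2, 0, -2, 0, 0]),
  (160, [-4, 4, 0, 0, 0, 0, 0, 0]),
  (161, [-1, 5, 1, 1, 1, -1, -1, -1]),
  (163, [-1, 1, 5, -1, -1, 1, 1, -1]),
  (165, [-1, -1, -5, 1, 1, 1, 1, -1]),
  (166, [-4, -2, 2, -2, -2, 0, 0, 0]),
  (167, [-1, -1, 3, -1, -1, -1, -1, -1]),
  (168, [-4, 0, 0, -4, 0, 0, 0, 0]),
  (169, [-1, 1, 1, -3, 1, -1, -1, -1]),
  (170, [-2, 2, 2, -4, 0, 0, 0, 2]),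
  (171, [-1, -3, -3, 3, -1, 1, 1, -1]),
  (172, [0, -2, 2, 0, 0, 2, -2, 0]),
  (173, [-1, 3, 3, -3, 1, 1, 1, -1]),
  (174, [-4, 2, 2, 2, -2, 0, 0, 0]),
  (175, [-1, 3, 3, 3, -1, -1, -1, -1]),
  (176, [-2, -2, 0, 0, 2, 2, 0, 0]),
  (179, [-3, 3, 1, 3, 1, -1, 1, -1]),
  (181, [-3, -3, 3, 1, -1, -1, 1, -1]),
  (183, [-1, -1, 5, 1, -1, -1, 1, 1]),
  (185, [-1, 1, 3, -1, 1, -1, 1, 1]),
  (187, [-3, -1, 1, -1, 1, -1, 1, -1]),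
  (190, [-2, -4, 2, 2, 0, 2, 0, 0]),
  (191, [-1, 3, -3, -3, -1, -1, 1, 1]),
  (192, [0, 0, -4, 4, 0, 0, 0, 0]),
  (194, [-2, -2, 2, -4, 0, 0, 0, -2]),
  (195, [-3, 3, -1, -3, 1, -1, -1, 1]),
  (200, [0, -4, -4, 0, 0, 0, 0, 0]),
  (201, [-3, 3, 3, -1, -1, 1, 1, 1]),
  (202, [-2, 2, 2, 0, 0, 0, 0, -2]),
  (203, [-5, 1, 1, -1, -1, 1, 1, -1]),
  (204, [0, -2, -2, 0, 0, 2, 2, 0]),
  (205, [-3, 1, 1, -1, -1, -1, -1, 1]),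
  (207, [-5, -1, -1, -1, -1, -1, -1, -1]),
  (208, [-2, 2, 0, 0, 2, -2, 0, 0]),
  (209, [-5, 1, -1, -1, 1, -1, 1, 1]),
  (210, [-2, -2, 4, -2, 0, 0, 2, 0]),
  (211, [-1, 1, -5, 1, -1, 1, -1, 1]),
  (213, [-1, -1, 1, 3, 1, 1, -1, 1]),
  (214, [-2, -4, 2, -2, 0, -2, 0, 0]),
  (215, [-3, -3, -1, 3, 1, 1, -1, -1]),
  (217, [-3, 3, 1, -3, -1, 1, -1, -1]),
  (218, [-2, 2, 4, 2, 0, 0, 2, 0]),
  (221, [-1, -5, 1, -1, 1, 1, -1, 1]),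
  (222, [-2, 0, 2, 2, 0, -2, 0, 0]),
  (223, [-5, -1, 1, 1, -1, -1, 1, 1]),
  (226, [-2, -2, -2, 4, 0, 0, 0, 2]),
  (227, [-1, 1, 1, -5, -1, 1, 1, -1]),
  (228, [0, -2, 2, 0, 0, -2, 2, 0]),
  (229, [-1, -1, -1, 5, 1, 1, 1, -1]),
  (230, [-4, 2, 2, -2, 2, 0, 0, 0]),
  (231, [-1, -1, -1, -5, -1, -1, -1, -1]),
  (232, [-4, 0, 4, 0, 0, 0, 0, 0]),
  (233, [-1, 1, 5, 1, 1, -1, -1, -1]),
  (235, [-1, 5, 1, -1, -1, 1, 1, -1]),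
  (237, [-1, -5, -1, 1, 1, 1, 1, -1]),
  (238, [-4, 2, -2, -2, -2, 0, 0, 0]),
  (239, [-1, 3, -1, -1, -1, -1, -1, -1]),
  (240, [0, 0, -2, 2, 0, 0, -2, 2]),
  (241, [-1, 5, -1, -1, 1, -1, 1, 1]),
  (242, [-2, -2, -4, 2, 0, 0, -2, 0]),
  (243, [-3, 3, -3, -1, 1, -1, 1, -1]),
  (244, [0, -2, 0, -2, 0, -2, 0, -2]),
  (245, [-3, -3, -1, -3, -1, -1, 1, -1]),
  (246, [-2, 0, -2, 2, 0, 2, 0, 0]),
  (247, [-1, -1, 1, -3, -1, -1, 1, 1]),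
  (249, [-1, 1, -1, -5, 1, -1, 1, 1]),
  (250, [-2, 2, 4, -2, 0, 0, -2, 0]),
  (252, [0, -2, 0, -2, 0, 2, 0, 2]),
  (253, [-3, 1, -1, 1, -1, -1, 1, -1]),
  (254, [-2, -4, -2, -2, 0, 2, 0, 0]),
  (255, [-1, 3, 1, 1, -1, -1, 1, 1])]

/-- The ten subspaces. -/
def lineTab : List (List ℕ) := [
  [3, 29, 30, 73, 74, 84, 87, 140, 143, 145, 146, 197, 198, 216, 219],
  [6, 43, 45, 88, 94, 115, 117, 153, 159, 178, 180, 193, 199, 234, 236],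
  [7, 11, 12, 51, 52, 56, 63, 130, 133, 137, 142, 177, 182, 186, 189],
  [24, 36, 60, 68, 92, 96, 120, 128, 152, 164, 188, 196, 220, 224, 248],
  [26, 47, 53, 67, 89, 108, 118, 141, 151, 162, 184, 206, 212, 225, 251],
  [3, 60, 63, 73, 74, 117, 118, 141, 142, 177, 178, 196, 199, 248, 251],
  [6, 24, 30, 43, 45, 51, 53, 137, 143, 145, 151, 162, 164, 186, 188],
  [7, 26, 29, 67, 68, 89, 94, 130, 133, 152, 159, 193, 198, 219, 220],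
  [11, 36, 47, 87, 92, 115, 120, 146, 153, 182, 189, 197, 206, 225, 234],
  [12, 52, 56, 84, 88, 96, 108, 128, 140, 180, 184, 212, 216, 224, 236]]

/-- The permutations commuting with the element. -/
def centFive : List ℕ := [
  0x20263a84ab6b1ee81c4652237a2656, 0x202a3b063049dae92848652e533d73,
  0x202c3986f27a92e5b054398b143615, 0x20562838a7ad2635180f436374d992,
  0x2060293a2ab1aa36200da26e57cceb, 0x206425baec9a2c33d00933cb16d550,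
  0x2092e782f6342819c86c59cb1522ad, 0x209ae48235a2d01b406a932e539a6f,
  0x209ee680b3448c1aac6782a37652c9, 0x20cc1408af558e06cdcbac23793134,
  0x20d01a0a2d64d404d5d0b4ae559de6, 0x20e8130ae93d5807d9d29acb1829a8,
  0x238e050ca68256243c336d637b4a8c, 0x2394060e2893e02a34354dae59acc7,
  0x2398038ef45b642324367ccb1ac10a, 0x2986ba3c82655d3480e1b4af1829a8,
  0x2990b1be2d75953154f00049793134, 0x29a8b43ee9501936d8f2ac2240b843,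
  0x29d5371a280a60f1b57510097b4a8c, 0x29d9351af480a4f425766d6240046e,
  0x29dd3618839342fa09604daf1ac10a, 0x2ac2f91c8eb200660e62a26f16d550,
  0x2ae0f09e2a052a67226d188974d992, 0x2ae4f81eeca8ec65526943624101c1,
  0x2bc474cc80a406bb04ce932f1522ad, 0x2bd276cef64068bac8cc82a2470c02,
  0x2bda714e351c90b040ca0b897652c9, 0x2cc06b2c814a847939e3652f143615,
  0x2cea602e30131a70a9e870c97a2656, 0x2cec6aaef26b927831f45222418820,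
  0x8a070334823d9d5781419acb793134, 0x8a0d0a34af600f54cd4bb4ae40b843,
  0x8a2901b6e974d95159520048559de6, 0x8a8f5620a69096da3e134dae40046e,
  0x8a995722f40be4d1a616100859acc7, 0x8a9d53a0835a42d30a007ccb7b4a8c,
  0x8b44a7d480348709850e59cb7652c9, 0x8b52a156f61ae900490c0b88539a6f,
  0x8b5ea4d4b3a04d0b2d07932e470c02, 0x8c02d5a88e9d00838ea233cb74d992,
  0x8c16d928a7b0e6861aafa26e4101c1, 0x8c24d0aaec01ac8752a9188857cceb,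
  0x8d4089c0817b04a5b9a3398b7a2656, 0x8d668b40ab4b9ea91da6652e418820,
  0x8d6c8042f211d2a0b1b470c8533d73, 0xba44c6d88042c72a868e82a2539a6f,
  0xba5ac7da35305129c28a59ca470c02, 0xba5ec158b31c0d202e870b891522ad,
  0xbb0f6750a60b5691be5310091ac10a, 0xbb1563d22858a09336557cca40046e,
  0xbb1d65508383c2940a406d6259acc7, 0xbc8298308ea981450ec2436257cceb,
  0xbc9690b0a70227471acf188916d550, 0xbca095b22a98eb43a2cd33ca4101c1,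
  0xbd0724248254dd668181ac22559de6, 0xbd0d21a4af754f614d8b00491829a8,
  0xbd1123262d381567d5909aca40b843, 0xbd814ac88169c4c839235222533d73,
  0xbda74048ab129ec09d2670c9143615, 0xbdab49ca307b9ac5a928398a418820]

/-- The invariant sign sets. -/
def fiveMasks : List ℕ := [
  0, 575743, 2319647, 2862560, 5640752, 6216399, 7698223, 8241104,
  8536111, 9078992, 10560816, 11136463, 13914655, 14457568, 16201472, 16777215]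

/-- Images of the frame under an element centralizing the element of order five. -/
def cTab : List (List ℤ) := [
    [0, 0, 0, 0, 2, -2, 0, 0, 0, 2, 0, 0, 2, 0, 0, 0, 0, -2, 2, 0, 2, 0, -6, 0],
    [0, 0, 0, 0, 2, -2, 0, 0, 0, 2, 0, 0, 2, 0, 0, 0, 0, -2, -6, 0, 2, 0, 2, 0],
    [0, 0, 0, 0, 2, -2, 0, 0, 0, -6, 0, 0, 2, 0, 0, 0, 0, -2, 2, 0, 2, 0, 2, 0],
    [0, 0, 0, 0, 2, -2, 0, 0, 0, 2, 0, 0, 2, 0, 0, 0, 0, -2, 2, 0, -6, 0, 2, 0],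
    [-2, -2, -2, -2, 0, 0, 2, 2, 2, 0, 2, 2, 0, 2, -2, 2, 2, 0, 0, 2, 0, 2, 0, -2],
    [0, 0, 0, 0, -6, -2, 0, 0, 0, 2, 0, 0, 2, 0, 0, 0, 0, -2, 2, 0, 2, 0, 2, 0],
    [2, 2, 2, -2, 0, 0, 2, 2, 2, 0, -2, -2, 0, -2, 2, 2, 2, 0, 0, -2, 0, 2, 0, -2],
    [2, 2, 2, 2, 0, 0, 2, 2, -2, 0, 2, 2, 0, 2, -2, -2, -2, 0, 0, -2, 0, 2, 0, -2],
    [2, 2, -2, 2, 0, 0, -2, 2, -2, 0, -2, 2, 0, -2, -2, 2, 2, 0, 0, 2, 0, 2, 0, 2],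
    [2, -2, 2, 2, 0, 0, 2, -2, 2, 0, 2, -2, 0, -2, -2, -2, 2, 0, 0, 2, 0, 2, 0, 2],
    [2, -2, 2, -2, 0, 0, 2, -2, -2, 0, -2, 2, 0, 2, 2, 2, -2, 0, 0, 2, 0, 2, 0, 2],
    [2, -2, 2, 2, 0, 0, -2, 2, 2, 0, -2, 2, 0, 2, 2, -2, 2, 0, 0, 2, 0, -2, 0, -2],
    [-2, 2, -2, 2, 0, 0, 2, -2, 2, 0, -2, 2, 0, 2, 2, -2, 2, 0, 0, -2, 0, 2, 0, 2],
    [-2, 2, 2, -2, 0, 0, 2, 2, -2, 0, 2, 2, 0, -2, 2, -2, 2, 0, 0, 2, 0, -2, 0, 2],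
    [0, 0, 0, 0, 2, -2, 0, 0, 0, 2, 0, 0, -6, 0, 0, 0, 0, -2, 2, 0, 2, 0, 2, 0],
    [2, 2, -2, 2, 0, 0, 2, -2, -2, 0, 2, -2, 0, 2, 2, 2, 2, 0, 0, 2, 0, -2, 0, -2],
    [-2, 2, 2, 2, 0, 0, 2, 2, 2, 0, -2, -2, 0, 2, -2, 2, -2, 0, 0, 2, 0, -2, 0, 2],
    [0, 0, 0, 0, -2, -6, 0, 0, 0, -2, 0, 0, -2, 0, 0, 0, 0, 2, -2, 0, -2, 0, -2, 0],
    [2, 2, -2, -2, 0, 0, -2, 2, 2, 0, 2, -2, 0, 2, 2, -2, -2, 0, 0, 2, 0, 2, 0, 2],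
    [-2, 2, 2, 2, 0, 0, -2, -2, 2, 0, 2, 2, 0, -2, 2, 2, -2, 0, 0, 2, 0, 2, 0, -2],
    [-2, -2, 2, 2, 0, 0, -2, 2, -2, 0, 2, -2, 0, 2, 2, 2, 2, 0, 0, -2, 0, 2, 0, 2],
    [2, -2, -2, 2, 0, 0, 2, 2, 2, 0, 2, 2, 0, -2, 2, 2, -2, 0, 0, -2, 0, -2, 0, 2],
    [2, 2, 2, -2, 0, 0, -2, -2, 2, 0, 2, 2, 0, 2, -2, 2, 2, 0, 0, -2, 0, -2, 0, 2],
    [0, 0, 0, 0, -2, 2, 0, 0, 0, -2, 0, 0, -2, 0, 0, 0, 0, -6, -2, 0, -2, 0, -2, 0]]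

/-- The transpose. -/
def cTabT : List (List ℤ) := [
    [0, 0, 0, 0, -2, 0, 2, 2, 2, 2, 2, 2, -2, -2, 0, 2, -2, 0, 2, -2, -2, 2, 2, 0],
    [0, 0, 0, 0, -2, 0, 2, 2, 2, -2, -2, -2, 2, 2, 0, 2, 2, 0, 2, 2, -2, -2, 2, 0],
    [0, 0, 0, 0, -2, 0, 2, 2, -2, 2, 2, 2, -2, 2, 0, -2, 2, 0, -2, 2, 2, -2, 2, 0],
    [0, 0, 0, 0, -2, 0, -2, 2, 2, 2, -2, 2, 2, -2, 0, 2, 2, 0, -2, 2, 2, 2, -2, 0],
    [2, 2, 2, 2, 0, -6, 0, 0, 0, 0, 0, 0, 0, 0, 2, 0, 0, -2, 0, 0, 0, 0, 0, -2],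
    [-2, -2, -2, -2, 0, -2, 0, 0, 0, 0, 0, 0, 0, 0, -2, 0, 0, -6, 0, 0, 0, 0, 0, 2],
    [0, 0, 0, 0, 2, 0, 2, 2, -2, 2, 2, -2, 2, 2, 0, 2, 2, 0, -2, -2, -2, 2, -2, 0],
    [0, 0, 0, 0, 2, 0, 2, 2, 2, -2, -2, 2, -2, 2, 0, -2, 2, 0, 2, -2, 2, 2, -2, 0],
    [0, 0, 0, 0, 2, 0, 2, -2, -2, 2, -2, 2, 2, -2, 0, -2, 2, 0, 2, 2, -2, 2, 2, 0],
    [2, 2, -6, 2, 0, 2, 0, 0, 0, 0, 0, 0, 0, 0, 2, 0, 0, -2, 0, 0, 0, 0, 0, -2],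
    [0, 0, 0, 0, 2, 0, -2, 2, -2, 2, -2, -2, -2, 2, 0, 2, -2, 0, 2, 2, 2, 2, 2, 0],
    [0, 0, 0, 0, 2, 0, -2, 2, 2, -2, 2, 2, 2, 2, 0, -2, -2, 0, -2, 2, -2, 2, 2, 0],
    [2, 2, 2, 2, 0, 2, 0, 0, 0, 0, 0, 0, 0, 0, -6, 0, 0, -2, 0, 0, 0, 0, 0, -2],
    [0, 0, 0, 0, 2, 0, -2, 2, -2, -2, 2, 2, 2, -2, 0, 2, 2, 0, 2, -2, 2, -2, 2, 0],
    [0, 0, 0, 0, -2, 0, 2, -2, -2, -2, 2, 2, 2, 2, 0, 2, -2, 0, 2, 2, 2, 2, -2, 0],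
    [0, 0, 0, 0, 2, 0, 2, -2, 2, -2, 2, -2, -2, -2, 0, 2, 2, 0, -2, 2, 2, 2, 2, 0],
    [0, 0, 0, 0, 2, 0, 2, -2, 2, 2, -2, 2, 2, 2, 0, 2, -2, 0, -2, -2, 2, -2, 2, 0],
    [-2, -2, -2, -2, 0, -2, 0, 0, 0, 0, 0, 0, 0, 0, -2, 0, 0, 2, 0, 0, 0, 0, 0, -6],
    [2, -6, 2, 2, 0, 2, 0, 0, 0, 0, 0, 0, 0, 0, 2, 0, 0, -2, 0, 0, 0, 0, 0, -2],
    [0, 0, 0, 0, 2, 0, -2, -2, 2, 2, 2, 2, -2, 2, 0, 2, 2, 0, 2, 2, -2, -2, -2, 0],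
    [2, 2, 2, -6, 0, 2, 0, 0, 0, 0, 0, 0, 0, 0, 2, 0, 0, -2, 0, 0, 0, 0, 0, -2],
    [0, 0, 0, 0, 2, 0, 2, 2, 2, 2, 2, -2, 2, -2, 0, -2, -2, 0, 2, 2, 2, -2, -2, 0],
    [-6, 2, 2, 2, 0, 2, 0, 0, 0, 0, 0, 0, 0, 0, 2, 0, 0, -2, 0, 0, 0, 0, 0, -2],
    [0, 0, 0, 0, -2, 0, -2, -2, 2, 2, 2, -2, 2, 2, 0, -2, 2, 0, 2, -2, 2, 2, 2, 0]]

/-- The images of the basis classes under the generators: the extra element, the permutations, the sign changes. -/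
def colTab : List (List ℕ) := [
  [78, 18, 176, 104, 229, 1, 2, 74],
  [101, 78, 4, 104, 144, 64, 32, 128],
  [113, 78, 16, 168, 116, 8, 104, 128],
  [149, 78, 244, 32, 132, 200, 168, 128],
  [101, 78, 4, 104, 144, 64, 32, 128],
  [113, 78, 16, 168, 116, 8, 104, 128],
  [149, 78, 244, 32, 132, 200, 168, 128],
  [149, 78, 244, 32, 132, 200, 168, 128],
  [113, 78, 16, 168, 116, 8, 104, 128],
  [101, 78, 4, 104, 144, 64, 32, 128],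
  [101, 78, 4, 104, 144, 64, 32, 128],
  [113, 78, 16, 168, 116, 8, 104, 128],
  [149, 78, 244, 32, 132, 200, 168, 128],
  [101, 78, 4, 104, 144, 64, 32, 128],
  [113, 78, 16, 168, 116, 8, 104, 128],
  [149, 78, 244, 32, 132, 200, 168, 128],
  [149, 158, 132, 8, 144, 64, 32, 128],
  [101, 158, 116, 32, 4, 168, 200, 128],
  [1, 158, 16, 200, 244, 104, 8, 128],
  [101, 158, 116, 32, 4, 168, 200, 128],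
  [1, 158, 16, 200, 244, 104, 8, 128],
  [149, 158, 132, 8, 144, 64, 32, 128],
  [149, 158, 132, 8, 144, 64, 32, 128],
  [101, 158, 116, 32, 4, 168, 200, 128],
  [1, 158, 16, 200, 244, 104, 8, 128],
  [149, 158, 132, 8, 144, 64, 32, 128],
  [1, 158, 16, 200, 244, 104, 8, 128],
  [101, 158, 116, 32, 4, 168, 200, 128],
  [149, 158, 132, 8, 144, 64, 32, 128],
  [101, 158, 116, 32, 4, 168, 200, 128],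
  [1, 158, 16, 200, 244, 104, 8, 128],
  [101, 50, 144, 200, 116, 8, 104, 128],
  [1, 50, 244, 64, 4, 168, 200, 128],
  [113, 50, 132, 104, 16, 32, 64, 128],
  [1, 50, 244, 64, 4, 168, 200, 128],
  [113, 50, 132, 104, 16, 32, 64, 128],
  [101, 50, 144, 200, 116, 8, 104, 128],
  [101, 50, 144, 200, 116, 8, 104, 128],
  [113, 50, 132, 104, 16, 32, 64, 128],
  [1, 50, 244, 64, 4, 168, 200, 128],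
  [101, 50, 144, 200, 116, 8, 104, 128],
  [1, 50, 244, 64, 4, 168, 200, 128],
  [113, 50, 132, 104, 16, 32, 64, 128],
  [101, 50, 144, 200, 116, 8, 104, 128],
  [1, 50, 244, 64, 4, 168, 200, 128],
  [113, 50, 132, 104, 16, 32, 64, 128],
  [113, 2, 116, 64, 132, 200, 168, 128],
  [1, 2, 4, 8, 16, 32, 64, 128],
  [149, 2, 144, 168, 244, 104, 8, 128],
  [149, 2, 144, 168, 244, 104, 8, 128],
  [1, 2, 4, 8, 16, 32, 64, 128],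
  [113, 2, 116, 64, 132, 200, 168, 128],
  [113, 2, 116, 64, 132, 200, 168, 128],
  [149, 2, 144, 168, 244, 104, 8, 128],
  [1, 2, 4, 8, 16, 32, 64, 128],
  [113, 2, 116, 64, 132, 200, 168, 128],
  [149, 2, 144, 168, 244, 104, 8, 128],
  [1, 2, 4, 8, 16, 32, 64, 128],
  [113, 2, 116, 64, 132, 200, 168, 128],
  [149, 2, 144, 168, 244, 104, 8, 128],
  [1, 2, 4, 8, 16, 32, 64, 128],
  [1, 2, 4, 8, 16, 32, 64, 128],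
  [81, 34, 228, 136, 16, 32, 64, 128],
  [253, 106, 228, 8, 240, 160, 192, 128],
  [205, 202, 4, 136, 240, 160, 192, 128],
  [75, 2, 204, 136, 48, 32, 192, 128],
  [187, 34, 172, 8, 48, 32, 192, 128],
  [95, 106, 172, 136, 80, 160, 64, 128],
  [79, 202, 204, 8, 80, 160, 64, 128],
  [79, 202, 204, 8, 80, 160, 64, 128],
  [95, 106, 172, 136, 80, 160, 64, 128],
  [187, 34, 172, 8, 48, 32, 192, 128],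
  [75, 2, 204, 136, 48, 32, 192, 128],
  [205, 202, 4, 136, 240, 160, 192, 128],
  [253, 106, 228, 8, 240, 160, 192, 128],
  [81, 34, 228, 136, 16, 32, 64, 128],
  [1, 2, 4, 8, 16, 32, 64, 128]]

/-- The actions of the generators on the ten subspaces. -/
def genTab : List (Bool × List ℕ × List ℕ) := [
  (true, [3, 1, 4, 0, 2], [3, 4, 1, 2, 0]),
  (false, [1, 0, 4, 3, 2], [1, 0, 3, 2, 4]),
  (false, [2, 1, 4, 3, 0], [0, 2, 3, 1, 4]),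
  (false, [0, 2, 4, 3, 1], [2, 1, 3, 0, 4]),
  (false, [1, 0, 4, 3, 2], [1, 0, 3, 2, 4]),
  (false, [2, 1, 4, 3, 0], [0, 2, 3, 1, 4]),
  (false, [0, 2, 4, 3, 1], [2, 1, 3, 0, 4]),
  (false, [0, 2, 4, 3, 1], [2, 1, 3, 0, 4]),
  (false, [2, 1, 4, 3, 0], [0, 2, 3, 1, 4]),
  (false, [1, 0, 4, 3, 2], [1, 0, 3, 2, 4]),
  (false, [1, 0, 4, 3, 2], [1, 0, 3, 2, 4]),
  (false, [2, 1, 4, 3, 0], [0, 2, 3, 1, 4]),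
  (false, [0, 2, 4, 3, 1], [2, 1, 3, 0, 4]),
  (false, [1, 0, 4, 3, 2], [1, 0, 3, 2, 4]),
  (false, [2, 1, 4, 3, 0], [0, 2, 3, 1, 4]),
  (false, [0, 2, 4, 3, 1], [2, 1, 3, 0, 4]),
  (false, [2, 4, 0, 3, 1], [3, 2, 1, 0, 4]),
  (false, [4, 1, 0, 3, 2], [0, 3, 1, 2, 4]),
  (false, [1, 2, 0, 3, 4], [2, 0, 1, 3, 4]),
  (false, [4, 1, 0, 3, 2], [0, 3, 1, 2, 4]),
  (false, [1, 2, 0, 3, 4], [2, 0, 1, 3, 4]),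
  (false, [2, 4, 0, 3, 1], [3, 2, 1, 0, 4]),
  (false, [2, 4, 0, 3, 1], [3, 2, 1, 0, 4]),
  (false, [4, 1, 0, 3, 2], [0, 3, 1, 2, 4]),
  (false, [1, 2, 0, 3, 4], [2, 0, 1, 3, 4]),
  (false, [2, 4, 0, 3, 1], [3, 2, 1, 0, 4]),
  (false, [1, 2, 0, 3, 4], [2, 0, 1, 3, 4]),
  (false, [4, 1, 0, 3, 2], [0, 3, 1, 2, 4]),
  (false, [2, 4, 0, 3, 1], [3, 2, 1, 0, 4]),
  (false, [4, 1, 0, 3, 2], [0, 3, 1, 2, 4]),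
  (false, [1, 2, 0, 3, 4], [2, 0, 1, 3, 4]),
  (false, [0, 4, 1, 3, 2], [3, 1, 0, 2, 4]),
  (false, [2, 0, 1, 3, 4], [1, 2, 0, 3, 4]),
  (false, [4, 2, 1, 3, 0], [2, 3, 0, 1, 4]),
  (false, [2, 0, 1, 3, 4], [1, 2, 0, 3, 4]),
  (false, [4, 2, 1, 3, 0], [2, 3, 0, 1, 4]),
  (false, [0, 4, 1, 3, 2], [3, 1, 0, 2, 4]),
  (false, [0, 4, 1, 3, 2], [3, 1, 0, 2, 4]),
  (false, [4, 2, 1, 3, 0], [2, 3, 0, 1, 4]),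
  (false, [2, 0, 1, 3, 4], [1, 2, 0, 3, 4]),
  (false, [0, 4, 1, 3, 2], [3, 1, 0, 2, 4]),
  (false, [2, 0, 1, 3, 4], [1, 2, 0, 3, 4]),
  (false, [4, 2, 1, 3, 0], [2, 3, 0, 1, 4]),
  (false, [0, 4, 1, 3, 2], [3, 1, 0, 2, 4]),
  (false, [2, 0, 1, 3, 4], [1, 2, 0, 3, 4]),
  (false, [4, 2, 1, 3, 0], [2, 3, 0, 1, 4]),
  (false, [1, 4, 2, 3, 0], [3, 0, 2, 1, 4]),
  (false, [0, 1, 2, 3, 4], [0, 1, 2, 3, 4]),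
  (false, [4, 0, 2, 3, 1], [1, 3, 2, 0, 4]),
  (false, [4, 0, 2, 3, 1], [1, 3, 2, 0, 4]),
  (false, [0, 1, 2, 3, 4], [0, 1, 2, 3, 4]),
  (false, [1, 4, 2, 3, 0], [3, 0, 2, 1, 4]),
  (false, [1, 4, 2, 3, 0], [3, 0, 2, 1, 4]),
  (false, [4, 0, 2, 3, 1], [1, 3, 2, 0, 4]),
  (false, [0, 1, 2, 3, 4], [0, 1, 2, 3, 4]),
  (false, [1, 4, 2, 3, 0], [3, 0, 2, 1, 4]),
  (false, [4, 0, 2, 3, 1], [1, 3, 2, 0, 4]),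
  (false, [0, 1, 2, 3, 4], [0, 1, 2, 3, 4]),
  (false, [1, 4, 2, 3, 0], [3, 0, 2, 1, 4]),
  (false, [4, 0, 2, 3, 1], [1, 3, 2, 0, 4]),
  (false, [0, 1, 2, 3, 4], [0, 1, 2, 3, 4]),
  (false, [0, 1, 2, 3, 4], [0, 1, 2, 3, 4]),
  (false, [1, 0, 4, 3, 2], [3, 2, 1, 0, 4]),
  (false, [4, 2, 1, 3, 0], [1, 0, 3, 2, 4]),
  (false, [2, 4, 0, 3, 1], [2, 3, 0, 1, 4]),
  (true, [0, 3, 2, 4, 1], [0, 4, 2, 1, 3]),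
  (true, [3, 0, 1, 4, 2], [1, 2, 4, 0, 3]),
  (true, [1, 2, 3, 4, 0], [4, 0, 1, 2, 3]),
  (true, [2, 1, 0, 4, 3], [2, 1, 0, 4, 3]),
  (true, [2, 1, 0, 4, 3], [2, 1, 0, 4, 3]),
  (true, [1, 2, 3, 4, 0], [4, 0, 1, 2, 3]),
  (true, [3, 0, 1, 4, 2], [1, 2, 4, 0, 3]),
  (true, [0, 3, 2, 4, 1], [0, 4, 2, 1, 3]),
  (false, [2, 4, 0, 3, 1], [2, 3, 0, 1, 4]),
  (false, [4, 2, 1, 3, 0], [1, 0, 3, 2, 4]),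
  (false, [1, 0, 4, 3, 2], [3, 2, 1, 0, 4]),
  (false, [0, 1, 2, 3, 4], [0, 1, 2, 3, 4])]

/-- The long classes, each with its predecessor and generator in a spanning tree of the orbit. -/
def treeTab : List (ℕ × ℕ × ℕ) := [
  (128, 0, 0), (74, 0, 0), (120, 1, 0), (6, 1, 1), (142, 1, 2), (198, 1, 3),
  (182, 1, 16), (118, 1, 17), (94, 1, 18), (146, 1, 31), (186, 1, 32), (26, 1, 33),
  (234, 1, 46), (162, 1, 48), (130, 1, 64), (152, 2, 1), (188, 2, 2), (196, 2, 3),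
  (248, 2, 16), (68, 2, 17), (92, 2, 18), (220, 2, 31), (36, 2, 32), (24, 2, 33),
  (164, 2, 46), (60, 2, 48), (88, 2, 65), (216, 2, 66), (56, 2, 67), (184, 2, 68),
  (206, 3, 64), (12, 6, 0), (30, 6, 64), (45, 8, 0), (189, 9, 0), (178, 9, 62),
  (212, 10, 0), (159, 11, 0), (51, 12, 0), (89, 13, 0), (199, 15, 0), (52, 16, 66),
  (84, 16, 67), (180, 16, 68), (140, 17, 65), (236, 17, 66), (108, 17, 67), (63, 20, 0),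
  (117, 21, 0), (177, 22, 0), (141, 23, 0), (251, 24, 0), (143, 26, 0), (197, 27, 0),
  (47, 32, 0), (151, 33, 0), (73, 33, 1), (193, 33, 2), (137, 33, 3), (153, 33, 17),
  (53, 33, 31), (29, 33, 32), (225, 33, 64), (219, 33, 67), (43, 33, 68), (145, 34, 64),
  (11, 34, 67), (87, 37, 1), (115, 37, 2), (3, 37, 32), (67, 37, 46), (7, 40, 3),
  (96, 47, 0), (133, 48, 3), (224, 49, 0)]

/-- The actions along the tree. -/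
def pathTab : List (Bool × List ℕ × List ℕ) := [
  (false, [0, 1, 2, 3, 4], [0, 1, 2, 3, 4]),
  (true, [3, 1, 4, 0, 2], [3, 4, 1, 2, 0]),
  (false, [2, 4, 0, 3, 1], [0, 2, 1, 4, 3]),
  (true, [2, 0, 4, 1, 3], [3, 2, 0, 4, 1]),
  (true, [1, 2, 4, 0, 3], [3, 0, 1, 4, 2]),
  (true, [0, 1, 4, 2, 3], [3, 1, 2, 4, 0]),
  (true, [0, 2, 4, 3, 1], [3, 1, 4, 0, 2]),
  (true, [2, 3, 4, 0, 1], [3, 2, 1, 0, 4]),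
  (true, [3, 0, 4, 2, 1], [3, 4, 2, 0, 1]),
  (true, [2, 1, 4, 3, 0], [3, 2, 4, 1, 0]),
  (true, [3, 2, 4, 1, 0], [3, 4, 0, 1, 2]),
  (true, [1, 3, 4, 2, 0], [3, 0, 2, 1, 4]),
  (true, [1, 0, 4, 3, 2], [3, 0, 4, 2, 1]),
  (true, [0, 3, 4, 1, 2], [3, 1, 0, 2, 4]),
  (true, [1, 3, 4, 2, 0], [3, 1, 4, 0, 2]),
  (false, [4, 2, 1, 3, 0], [1, 3, 0, 4, 2]),
  (false, [4, 0, 2, 3, 1], [0, 3, 2, 4, 1]),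
  (false, [4, 1, 0, 3, 2], [2, 3, 1, 4, 0]),
  (false, [0, 1, 2, 3, 4], [3, 1, 2, 4, 0]),
  (false, [0, 2, 4, 3, 1], [0, 1, 3, 4, 2]),
  (false, [0, 4, 1, 3, 2], [2, 1, 0, 4, 3]),
  (false, [1, 2, 0, 3, 4], [3, 0, 1, 4, 2]),
  (false, [1, 4, 2, 3, 0], [1, 0, 2, 4, 3]),
  (false, [1, 0, 4, 3, 2], [2, 0, 3, 4, 1]),
  (false, [2, 0, 1, 3, 4], [3, 2, 0, 4, 1]),
  (false, [2, 1, 4, 3, 0], [1, 2, 3, 4, 0]),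
  (true, [2, 1, 0, 4, 3], [0, 2, 4, 3, 1]),
  (true, [1, 2, 3, 4, 0], [1, 4, 2, 3, 0]),
  (true, [3, 0, 1, 4, 2], [4, 1, 0, 3, 2]),
  (true, [0, 3, 2, 4, 1], [2, 0, 1, 3, 4]),
  (true, [0, 2, 4, 3, 1], [3, 0, 2, 1, 4]),
  (false, [3, 1, 0, 2, 4], [0, 1, 2, 3, 4]),
  (true, [2, 0, 4, 1, 3], [3, 4, 1, 2, 0]),
  (false, [2, 3, 0, 1, 4], [0, 2, 4, 3, 1]),
  (false, [1, 4, 0, 2, 3], [0, 4, 2, 1, 3]),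
  (true, [1, 2, 4, 0, 3], [3, 4, 2, 0, 1]),
  (false, [2, 1, 0, 4, 3], [0, 2, 3, 1, 4]),
  (false, [4, 2, 0, 1, 3], [0, 3, 4, 1, 2]),
  (false, [4, 3, 0, 2, 1], [0, 3, 2, 4, 1]),
  (false, [3, 2, 0, 4, 1], [0, 1, 3, 4, 2]),
  (true, [2, 4, 1, 0, 3], [4, 2, 3, 0, 1]),
  (true, [2, 3, 1, 4, 0], [1, 0, 4, 3, 2]),
  (true, [0, 1, 3, 4, 2], [4, 2, 1, 3, 0]),
  (true, [3, 2, 0, 4, 1], [2, 4, 0, 3, 1]),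
  (true, [1, 3, 0, 4, 2], [2, 1, 4, 3, 0]),
  (true, [2, 0, 3, 4, 1], [4, 0, 2, 3, 1]),
  (true, [0, 2, 1, 4, 3], [1, 2, 0, 3, 4]),
  (true, [3, 2, 1, 0, 4], [1, 4, 3, 0, 2]),
  (true, [1, 4, 3, 0, 2], [2, 3, 4, 0, 1]),
  (true, [1, 2, 4, 0, 3], [4, 3, 1, 0, 2]),
  (true, [1, 3, 2, 0, 4], [1, 3, 2, 0, 4]),
  (true, [4, 3, 1, 0, 2], [2, 1, 3, 0, 4]),
  (false, [1, 4, 3, 0, 2], [3, 4, 2, 0, 1]),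
  (false, [4, 1, 2, 0, 3], [1, 2, 4, 0, 3]),
  (false, [1, 3, 0, 4, 2], [0, 2, 1, 4, 3]),
  (true, [4, 0, 3, 1, 2], [3, 1, 0, 2, 4]),
  (false, [4, 3, 1, 0, 2], [1, 3, 4, 2, 0]),
  (false, [4, 3, 2, 1, 0], [0, 3, 4, 1, 2]),
  (false, [4, 3, 0, 2, 1], [2, 3, 4, 0, 1]),
  (false, [0, 3, 4, 1, 2], [0, 1, 4, 2, 3]),
  (false, [1, 3, 0, 4, 2], [3, 0, 4, 2, 1]),
  (false, [1, 3, 2, 0, 4], [1, 0, 4, 3, 2]),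
  (false, [0, 3, 2, 4, 1], [2, 0, 4, 1, 3]),
  (true, [3, 4, 1, 2, 0], [4, 1, 3, 2, 0]),
  (true, [0, 4, 2, 1, 3], [2, 0, 3, 4, 1]),
  (false, [4, 1, 2, 0, 3], [2, 4, 0, 3, 1]),
  (true, [2, 0, 1, 3, 4], [4, 3, 1, 0, 2]),
  (false, [2, 4, 1, 0, 3], [1, 2, 4, 0, 3]),
  (false, [0, 4, 2, 1, 3], [0, 1, 4, 2, 3]),
  (false, [4, 1, 2, 0, 3], [1, 3, 4, 2, 0]),
  (false, [0, 2, 1, 4, 3], [3, 1, 4, 0, 2]),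
  (true, [3, 4, 1, 2, 0], [1, 4, 3, 0, 2]),
  (false, [2, 1, 4, 3, 0], [1, 2, 0, 3, 4]),
  (true, [1, 4, 0, 2, 3], [4, 3, 1, 0, 2]),
  (false, [4, 1, 0, 3, 2], [2, 0, 1, 3, 4])]

end CfsgLib.Spor.MonsterType.Five
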