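import Cfsg.Agent.Lib.Spor.MonsterType.Five.Action
import Cfsg.Agent.Lib.Spor.MonsterType.Prime.Standard

/-!
# A Sylow 5-subgroup of the joint centralizer of two conjugates, in standard position
-/

set_option autoImplicit false

namespace CfsgLib.Spor.MonsterType.Five

open Subgroup CfsgLib.Spor CfsgLib.Spor.Leech
open Cfsg (leechLattice Co0 GolayPt M24)

noncomputable section

theorem fact_five_cross : (4096 * 244823040 : ℕ).factorization 5 = 1 := by
  rw [show (4096 * 244823040 : ℕ) = 5 * 200559034368 by norm_num, Nat.factorization_mul (by norm_num) (by norm_num),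
    Finsupp.add_apply, Nat.Prime.factorization_self (by norm_num),
    Nat.factorization_eq_zero_of_not_dvd (by norm_num)]

theorem orderOf_rho : orderOf rho = 5 := by
  haveI : Fact (Nat.Prime 5) := ⟨by norm_num⟩
  refine orderOf_eq_prime rho_pow_five fun h => fiveElt_facts.2.2.2.1 ?_
  refine permOf_inj_normal (permOf_powCode fiveElt_code 1).2 (by decide +kernel) (by decide +kernel) (by decide +kernel) ?_
  rw [(permOf_powCode fiveElt_code 1).1, pow_one, permOf_idPacked]
  exact h

theorem orderOf_P5 : orderOf P5 = 5 := by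
  have h : P5 = prmHom ⟨rho, rho_mem⟩ := rfl
  rw [h, orderOf_injective prmHom prmHom_injective, ← orderOf_coe]
  exact orderOf_rho

/-- An element of the cross stabiliser of order five is conjugate to a power of the standard one. -/
theorem exists_conj_power {x : crossStab} (hx : x ^ 5 = 1) (hx1 : x ≠ 1) :
    ∃ k : Co0, ∃ i : ℕ, ¬5 ∣ i ∧ k * (x : Co0) * k⁻¹ = S5.P ^ i := by
  classical
  haveI : Fact (Nat.Prime 5) := ⟨by norm_num⟩
  let p0 : crossStab := ⟨P5, monoAut_preserves rho_mem Cfsg.Spor.empty_mem_supports_golayCode⟩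
  have hexp : (Nat.card crossStab).factorization 5 = 1 := by rw [card_crossStab, fact_five_cross]
  have hp0 : orderOf p0 = 5 := by rw [← orderOf_coe]; exact orderOf_P5
  let S₁ : Sylow 5 crossStab := Sylow.ofCard (zpowers x)
    (by rw [Nat.card_zpowers, orderOf_eq_prime hx hx1, hexp, pow_one])
  let S₂ : Sylow 5 crossStab := Sylow.ofCard (zpowers p0) (by rw [Nat.card_zpowers, hp0, hexp, pow_one])
  obtain ⟨k, hk⟩ := MulAction.exists_smul_eq crossStab S₁ S₂
  have hk' : (zpowers x).map (MulAut.conj k).toMonoidHom = zpowers p0 := congrArg Sylow.toSubgroup hk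
  have hm : k * x * k⁻¹ ∈ zpowers p0 := by rw [← hk']; exact ⟨x, mem_zpowers x, rfl⟩
  rw [mem_zpowers_iff_mem_range_orderOf, hp0, Finset.mem_image] at hm
  obtain ⟨i, hi, he⟩ := hm
  rw [Finset.mem_range] at hi
  refine ⟨k, i, fun h0 => hx1 ?_, congrArg Subtype.val he.symm⟩
  have hi0 : i = 0 := by omega
  rw [hi0, pow_zero] at he
  exact mul_left_cancel ((mul_inv_eq_one.1 he.symm).trans (mul_one k).symm)

variable {G : Type*} [Group G] [Finite G] {z : G} {Q : Subgroup G} {R : leechLattice → G → Prop}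
  {π : ↥(centralizer ({z} : Set G)) →* Cfsg.Spor.Co1}

theorem exists_standard (D : Data z Q R π) (hw : ∃ g : G, g * z * g⁻¹ ∈ Q ∧ g * z * g⁻¹ ≠ z) {g : G}
    (hgQ : g * z * g⁻¹ ∈ Q) (hne : g * z * g⁻¹ ≠ z) (B : Subgroup G)
    (hB : B ≤ centralizer ({z, g * z * g⁻¹} : Set G))
    (hBp : Nat.card B = 5 ^ (Nat.card ↥(centralizer ({z, g * z * g⁻¹} : Set G))).factorization 5) :
    ∃ (R' : leechLattice → G → Prop) (π' : ↥(centralizer ({z} : Set G)) →* Cfsg.Spor.Co1)
      (D' : Data z Q R' π') (b : G), B = zpowers b ∧ Prime.Elt D' S5 b := by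
  haveI : Fact (Nat.Prime 5) := ⟨by norm_num⟩
  obtain ⟨h, himg, hfac⟩ := Prime.exists_cross D hgQ hne
  rw [hfac 5 (by norm_num) (by norm_num), fact_five_cross, pow_one] at hBp
  obtain ⟨b, hb, y, hBb, hord, hy5, hy1, hy⟩ := Prime.exists_preimage D (by norm_num) himg B hB hBp
  obtain ⟨k, i, hi, hki⟩ := exists_conj_power hy5 hy1
  obtain ⟨R', π', D', b', e, E⟩ := Prime.exists_standard D hw (by norm_num) hb hord hy hi hki
  exact ⟨R', π', D', b', hBb.trans e, E⟩

end

end CfsgLib.Spor.MonsterType.Five
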